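import Cfsg.Agent.HSGraph.Aut

/-! The even automorphisms of the standard graph form a simple group of order 44352000. -/

set_option autoImplicit false

open scoped Pointwise

namespace CfsgLib.HSGraph

open Cfsg CfsgLib.DesignUnique CfsgLib.Mathieu

/-- A simple group of order more than two has only the trivial map to `ℤˣ`. -/
theorem eq_one_of_simple {G : Type*} [Group G] [IsSimpleGroup G] (h : 2 < Nat.card G)
    (f : G →* ℤˣ) (g : G) : f g = 1 := by
  rcases f.normal_ker.eq_bot_or_eq_top with hk | hk
  · exfalso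
    have := Nat.card_le_card_of_injective f ((MonoidHom.ker_eq_bot_iff f).1 hk)
    rw [Nat.card_eq_fintype_card (α := ℤˣ), Fintype.card_units_int] at this
    omega
  · exact f.mem_ker.1 (hk ▸ Subgroup.mem_top g)

/-- The sign of an automorphism of the standard design, seen on the graph. -/
noncomputable def sgnDesign : setSystemAut std22 →* ℤˣ := signHom.comp extAut

theorem signHom_surjective : Function.Surjective signHom := fun u => by
  rcases Int.units_eq_one_or u with rfl | rfl
  · exact ⟨1, map_one _⟩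
  · exact ⟨oddAut, signHom_oddAut⟩

theorem sgnDesign_surjective : Function.Surjective sgnDesign := fun u => by
  rcases Int.units_eq_one_or u with rfl | rfl
  · exact ⟨1, map_one _⟩
  · exact ⟨⟨negInv, negInv_mem⟩, signHom_oddAut⟩

/-- The pointwise stabiliser of the two extra points, inside the design group. -/
noncomputable def innerPart : Subgroup (setSystemAut std22) :=
  ((fixPt (fixPt M24 (none : GolayPt)) (some 0)).subgroupOf pairStab).map
    autEquiv22.symm.toMonoidHom

theorem fixPair_le : fixPt (fixPt M24 (none : GolayPt)) (some 0) ≤ pairStab := by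
  rintro g ⟨⟨hg, hn : g none = none⟩, h0 : g (some 0) = some 0⟩
  refine ⟨hg, ?_⟩
  simp [pairInf, Finset.smul_finset_insert, Finset.smul_finset_singleton, hn, h0]

noncomputable def innerEquiv :
    innerPart ≃* fixPt (fixPt M24 (none : GolayPt)) (some 0) :=
  ((((fixPt (fixPt M24 (none : GolayPt)) (some 0)).subgroupOf pairStab).equivMapOfInjective
    autEquiv22.symm.toMonoidHom autEquiv22.symm.injective).symm).trans
      (Subgroup.subgroupOfEquivOfLe fixPair_le)

theorem card_innerPart : Nat.card innerPart = 443520 := by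
  rw [Nat.card_congr innerEquiv.toEquiv, card_fixPair (by simp)]

theorem isSimpleGroup_innerPart : IsSimpleGroup innerPart := by
  have := isSimpleGroup_fixPair (p := (none : GolayPt)) (q := some 0) (by simp)
  exact MulEquiv.isSimpleGroup innerEquiv

theorem ker_sgnDesign : sgnDesign.ker = innerPart := by
  have := isSimpleGroup_innerPart
  have hle : innerPart ≤ sgnDesign.ker := fun σ hσ =>
    eq_one_of_simple (by rw [card_innerPart]; norm_num) (sgnDesign.comp innerPart.subtype) ⟨σ, hσ⟩
  refine (Subgroup.eq_of_le_of_card_ge hle ?_).symm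
  have h := Subgroup.index_mul_card sgnDesign.ker
  rw [Subgroup.index_ker, MonoidHom.range_eq_top.2 sgnDesign_surjective, Subgroup.card_top,
    Nat.card_eq_fintype_card (α := ℤˣ), Fintype.card_units_int,
    Nat.card_congr autEquiv22.toEquiv, card_pairStab] at h
  rw [card_innerPart]
  omega

theorem inner_trans (x y : Fin 3 ↪ Pt22) :
    ∃ σ ∈ innerPart, ∀ i, (σ : Equiv.Perm Pt22) (x i) = y i := by
  have hinj : ∀ z : Fin 3 ↪ Pt22, Function.Injective
      (Fin.cons none (Fin.cons (some 0) (fun i => iota22 (some (some (z i))))) : Fin 5 → GolayPt) := by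
    intro z
    refine Fin.cons_injective_of_injective ?_ (Fin.cons_injective_of_injective ?_ ?_)
    · rintro ⟨i, hi⟩
      refine Fin.cases ?_ (fun i => ?_) i hi
      · simp
      · simp [iota22]
    · simp [iota22, (z _).2]
    · intro a b h; simpa using h
  obtain ⟨g, hg, h⟩ := exists_map_five_fun (hinj x) (hinj y)
  have hf : g ∈ fixPt (fixPt M24 (none : GolayPt)) (some 0) := ⟨⟨hg, by simpa using h 0⟩, by simpa using h 1⟩
  refine ⟨autEquiv22.symm ⟨g, fixPair_le hf⟩, ⟨⟨g, fixPair_le hf⟩, hf, rfl⟩, fun i => ?_⟩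
  have h1 : g (iota22 (some (some (x i)))) =
      iota22 (some (some (restr ⟨g, fixPair_le hf⟩ (x i)))) := restr_spec ⟨g, fixPair_le hf⟩ (x i)
  have h2 := h i.succ.succ
  simp only [Fin.cons_succ] at h2
  rw [h2] at h1
  exact (Option.some.inj (Option.some.inj (iota22.injective h1))).symm

theorem inner_trans_point (a a' : Pt22) : ∃ σ ∈ innerPart, (σ : Equiv.Perm Pt22) a = a' := by
  have h : ∀ a : Pt22, ∃ x : Fin 3 ↪ Pt22, x 0 = a := fun a => by
    obtain ⟨x⟩ : Nonempty (Fin 3 ↪ Pt22) := Function.Embedding.nonempty_of_card_le (by simp)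
    exact ⟨x.trans (Equiv.swap (x 0) a).toEmbedding, by simp⟩
  obtain ⟨x, hx⟩ := h a
  obtain ⟨y, hy⟩ := h a'
  obtain ⟨σ, hσ, hxy⟩ := inner_trans x y
  exact ⟨σ, hσ, by rw [← hx, hxy, hy]⟩

theorem inner_trans_block (b c : std22) : ∃ σ ∈ innerPart, blockPerm σ b = c := by
  have h : ∀ b : std22, ∃ x : Fin 3 ↪ Pt22, ∀ i, x i ∈ (b : Finset Pt22) := fun b => by
    obtain ⟨x⟩ : Nonempty (Fin 3 ↪ {a // a ∈ (b : Finset Pt22)}) :=
      Function.Embedding.nonempty_of_card_le (by
        rw [Fintype.card_coe, std22_steiner.1 _ b.2, Fintype.card_fin]; norm_num)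
    exact ⟨x.trans (Function.Embedding.subtype _), fun i => (x i).2⟩
  obtain ⟨x, hx⟩ := h b
  obtain ⟨y, hy⟩ := h c
  obtain ⟨σ, hσ, hxy⟩ := inner_trans x y
  refine ⟨σ, hσ, Subtype.ext ?_⟩
  refine (std22_steiner.2 (Finset.univ.map y) (by simp)).unique ⟨(blockPerm σ b).2, ?_⟩ ⟨c.2, ?_⟩
  · intro a ha
    obtain ⟨i, -, rfl⟩ := Finset.mem_map.1 ha
    show y i ∈ (σ : Equiv.Perm Pt22) • (b : Finset Pt22)
    rw [← hxy i]
    exact Finset.smul_mem_smul_finset (hx i)
  · intro a ha
    obtain ⟨i, -, rfl⟩ := Finset.mem_map.1 ha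
    exact hy i

/-- The group of even automorphisms. -/
noncomputable def evenAut : Subgroup (stdGraph ≃g stdGraph) := signHom.ker

theorem card_evenAut : Nat.card evenAut = 44352000 := by
  have h := Subgroup.index_mul_card signHom.ker
  rw [Subgroup.index_ker, MonoidHom.range_eq_top.2 signHom_surjective, Subgroup.card_top,
    Nat.card_eq_fintype_card (α := ℤˣ), Fintype.card_units_int, card_aut_std] at h
  rw [evenAut]
  omega

instance evenAut_pretransitive : MulAction.IsPretransitive evenAut (Option (Pt22 ⊕ std22)) := by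
  have key : ∀ v, ∃ f : evenAut, f • (none : Option (Pt22 ⊕ std22)) = v := fun v => by
    obtain ⟨f, hf⟩ := MulAction.exists_smul_eq (stdGraph ≃g stdGraph)
      (none : Option (Pt22 ⊕ std22)) v
    rcases Int.units_eq_one_or (signHom f) with h | h
    · exact ⟨⟨f, h⟩, hf⟩
    · refine ⟨⟨f * oddAut, ?_⟩, ?_⟩
      · show signHom (f * oddAut) = 1
        rw [map_mul, h, signHom_oddAut]; decide
      · show (f * oddAut) • (none : Option (Pt22 ⊕ std22)) = v
        rw [mul_smul, ← hf]
        exact congrArg (f • ·) (extAut_none _)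
  refine ⟨fun u v => ?_⟩
  obtain ⟨f, rfl⟩ := key u
  obtain ⟨g, rfl⟩ := key v
  exact ⟨g * f⁻¹, by rw [mul_smul, inv_smul_smul]⟩

/-- The stabiliser of the extra vertex among the even automorphisms. -/
noncomputable def innerToEven : innerPart →*
    MulAction.stabilizer evenAut (none : Option (Pt22 ⊕ std22)) :=
  MonoidHom.mk' (fun σ => ⟨⟨extAut σ.1, (by
      rw [evenAut, MonoidHom.mem_ker]
      exact (MonoidHom.mem_ker (f := sgnDesign)).1 (ker_sgnDesign.ge σ.2))⟩, extAut_none σ.1⟩)
    fun σ τ => Subtype.ext (Subtype.ext (map_mul extAut σ.1 τ.1))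

theorem innerToEven_bijective : Function.Bijective innerToEven := by
  constructor
  · intro σ τ h
    exact Subtype.ext (extAut_injective (congrArg (fun f => f.1.1) h))
  · rintro ⟨⟨f, hf⟩, hf0⟩
    have hf' : f ∈ (extAut (B := std22)).range := by rw [range_extAut]; exact hf0
    obtain ⟨σ, rfl⟩ := hf'
    have hσ : σ ∈ innerPart := ker_sgnDesign.le (show σ ∈ sgnDesign.ker from hf)
    exact ⟨⟨σ, hσ⟩, rfl⟩

theorem exists_evenAut_point (a a' : Pt22) : ∃ f : evenAut,
    f • (none : Option (Pt22 ⊕ std22)) = none ∧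
      f • (some (Sum.inl a) : Option (Pt22 ⊕ std22)) = some (Sum.inl a') := by
  obtain ⟨σ, hσ, h⟩ := inner_trans_point a a'
  refine ⟨(innerToEven ⟨σ, hσ⟩).1, extAut_none σ, ?_⟩
  show extAut σ (some (Sum.inl a)) = _
  rw [extAut_point, h]

theorem exists_evenAut_block (b c : std22) : ∃ f : evenAut,
    f • (none : Option (Pt22 ⊕ std22)) = none ∧
      f • (some (Sum.inr b) : Option (Pt22 ⊕ std22)) = some (Sum.inr c) := by
  obtain ⟨σ, hσ, h⟩ := inner_trans_block b c
  refine ⟨(innerToEven ⟨σ, hσ⟩).1, extAut_none σ, ?_⟩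
  show extAut σ (some (Sum.inr b)) = _
  rw [extAut_block, h]

theorem card_vertices_std : Nat.card (Option (Pt22 ⊕ std22)) = 100 := by
  rw [Finite.card_option, Nat.card_sum, Nat.card_coe_set_eq, ncard_std22,
    Nat.card_eq_fintype_card (α := Pt22), show Fintype.card Pt22 = 22 by simp]

/-- A nontrivial normal subgroup moves the extra vertex everywhere. -/
theorem orbit_normal {N : Subgroup evenAut} [N.Normal] (hN : N ≠ ⊥) :
    MulAction.orbit N (none : Option (Pt22 ⊕ std22)) = Set.univ := by
  set O := MulAction.orbit N (none : Option (Pt22 ⊕ std22)) with hO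
  have hdvd : O.ncard ∣ 100 := card_vertices_std ▸
    (MulAction.IsBlock.orbit_of_normal (G := evenAut) (N := N) _).ncard_dvd_card
      ⟨none, MulAction.mem_orbit_self _⟩
  have hnone : none ∈ O := MulAction.mem_orbit_self _
  have hstab : ∀ f : evenAut, f • (none : Option (Pt22 ⊕ std22)) = none → ∀ v ∈ O, f • v ∈ O := by
    rintro f hf _ ⟨⟨n, hn⟩, rfl⟩
    refine ⟨⟨f * n * f⁻¹, ‹N.Normal›.conj_mem n hn f⟩, ?_⟩
    show (f * n * f⁻¹) • (none : Option (Pt22 ⊕ std22)) = f • (n • none)
    rw [mul_smul, mul_smul, inv_smul_eq_iff.2 hf.symm]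
  have hsub : ¬ O ⊆ {none} := fun hsub => by
    refine hN ((Subgroup.eq_bot_iff_forall N).2 fun n hn => Subtype.ext (RelIso.ext fun v => ?_))
    obtain ⟨f, rfl⟩ := MulAction.exists_smul_eq evenAut (none : Option (Pt22 ⊕ std22)) v
    have h1 : (f⁻¹ * n * f) • (none : Option (Pt22 ⊕ std22)) = none :=
      hsub ⟨⟨f⁻¹ * n * f, ‹N.Normal›.conj_mem' n hn f⟩, rfl⟩
    rw [mul_smul, mul_smul, inv_smul_eq_iff] at h1
    exact h1
  have hpt : ∀ a, some (Sum.inl a) ∈ O → ∀ a', some (Sum.inl a') ∈ O := fun a ha a' => by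
    obtain ⟨f, hf, hfa⟩ := exists_evenAut_point a a'
    exact hfa ▸ hstab f hf _ ha
  have hbl : ∀ b, some (Sum.inr b) ∈ O → ∀ c, some (Sum.inr c) ∈ O := fun b hb c => by
    obtain ⟨f, hf, hfb⟩ := exists_evenAut_block b c
    exact hfb ▸ hstab f hf _ hb
  have hP : ((fun a => some (Sum.inl a)) '' Set.univ : Set (Option (Pt22 ⊕ std22))).ncard = 22 := by
    rw [Set.ncard_image_of_injective _ (fun a b h => Sum.inl.inj (Option.some.inj h)), Set.ncard_univ,
      Nat.card_eq_fintype_card]
    simp
  have hQ : ((fun b => some (Sum.inr b)) '' Set.univ : Set (Option (Pt22 ⊕ std22))).ncard = 77 := by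
    rw [Set.ncard_image_of_injective _ (fun a b h => Sum.inr.inj (Option.some.inj h)), Set.ncard_univ,
      Nat.card_coe_set_eq, ncard_std22]
  by_cases hp : ∃ a, some (Sum.inl a) ∈ O
  · obtain ⟨a, ha⟩ := hp
    by_cases hq : ∃ b, some (Sum.inr b) ∈ O
    · obtain ⟨b, hb⟩ := hq
      refine Set.eq_univ_of_forall ?_
      rintro (_ | a' | c)
      exacts [hnone, hpt a ha a', hbl b hb c]
    · exfalso
      have : O = insert none ((fun a => some (Sum.inl a)) '' Set.univ) := by
        ext (_ | a' | c)
        · simp [hnone]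
        · simp [hpt a ha a']
        · simpa using fun hc => hq ⟨c, hc⟩
      rw [this, Set.ncard_insert_of_notMem (by simp) (Set.toFinite _), hP] at hdvd
      omega
  · by_cases hq : ∃ b, some (Sum.inr b) ∈ O
    · exfalso
      obtain ⟨b, hb⟩ := hq
      have : O = insert none ((fun b => some (Sum.inr b)) '' Set.univ) := by
        ext (_ | a' | c)
        · simp [hnone]
        · simpa using fun ha => hp ⟨a', ha⟩
        · simp [hbl b hb c]
      rw [this, Set.ncard_insert_of_notMem (by simp) (Set.toFinite _), hQ] at hdvd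
      omega
    · refine absurd ?_ hsub
      rintro (_ | a | c) h
      exacts [rfl, (hp ⟨a, h⟩).elim, (hq ⟨c, h⟩).elim]

theorem card_normal {N : Subgroup evenAut} [N.Normal] (hN : N ≠ ⊥) :
    Nat.card N = 100 * Nat.card (MulAction.stabilizer N (none : Option (Pt22 ⊕ std22))) := by
  have h := Subgroup.index_mul_card (MulAction.stabilizer N (none : Option (Pt22 ⊕ std22)))
  rw [MulAction.index_stabilizer, orbit_normal hN, Set.ncard_univ, card_vertices_std] at h
  exact h.symm

theorem isSimpleGroup_evenAut : IsSimpleGroup evenAut := by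
  have := finite_aut stdGraph
  have := isSimpleGroup_innerPart
  set S := MulAction.stabilizer evenAut (none : Option (Pt22 ⊕ std22)) with hS
  have hSs : IsSimpleGroup S :=
    MulEquiv.isSimpleGroup (MulEquiv.ofBijective innerToEven innerToEven_bijective).symm
  have hScard : Nat.card S = 443520 := by
    rw [← Nat.card_congr (MulEquiv.ofBijective innerToEven innerToEven_bijective).toEquiv, card_innerPart]
  have hnt : Nontrivial evenAut := Finite.one_lt_card_iff_nontrivial.1 (by rw [card_evenAut]; norm_num)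
  refine ⟨fun N hN => ?_⟩
  by_cases hbot : N = ⊥
  · exact Or.inl hbot
  have heq : Nat.card (MulAction.stabilizer N (none : Option (Pt22 ⊕ std22))) =
      Nat.card (N.subgroupOf S) :=
    Nat.card_congr
      { toFun := fun n => ⟨⟨n.1.1, n.2⟩, n.1.2⟩
        invFun := fun s => ⟨⟨s.1.1, s.2⟩, s.1.2⟩
        left_inv := fun _ => rfl
        right_inv := fun _ => rfl }
  rcases hSs.eq_bot_or_eq_top_of_normal (N.subgroupOf S) inferInstance with h | h
  · exfalso
    have hc : Nat.card N = 100 := by rw [card_normal hbot, heq, h, Subgroup.card_bot]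
    have : Fact (Nat.Prime 5) := ⟨by norm_num⟩
    obtain ⟨P⟩ : Nonempty (Sylow 5 N) := inferInstance
    have hPc : Nat.card P = 25 := by
      rw [P.card_eq_multiplicity, hc, show (100 : ℕ) = 5 ^ 2 * 4 by norm_num,
        Nat.factorization_mul (by norm_num) (by norm_num), Nat.Prime.factorization_pow (by norm_num)]
      rw [Finsupp.add_apply, Finsupp.single_eq_same,
        Nat.factorization_eq_zero_of_not_dvd (by norm_num : ¬ (5 : ℕ) ∣ 4)]
      norm_num
    have hPi : P.1.index = 4 := by
      have := Subgroup.index_mul_card P.1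
      rw [hc, hPc] at this
      omega
    have hone : Nat.card (Sylow 5 N) = 1 := by
      have h1 := card_sylow_modEq_one 5 N
      have h2 : Nat.card (Sylow 5 N) ∣ 4 := hPi ▸ P.card_dvd_index
      have h3 := Nat.le_of_dvd (by norm_num) h2
      have h4 : Nat.card (Sylow 5 N) % 5 = 1 := h1
      omega
    have := (Nat.card_eq_one_iff_unique.1 hone).1
    have : P.1.Characteristic := P.characteristic_of_subsingleton
    have hM : P.1.map N.subtype ≠ ⊥ := fun e => by
      rw [Subgroup.map_eq_bot_iff_of_injective _ N.subtype_injective] at e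
      rw [e, Subgroup.card_bot] at hPc
      omega
    have h5 := card_normal hM
    rw [Subgroup.card_map_of_injective N.subtype_injective, hPc] at h5
    omega
  · right
    refine Subgroup.eq_top_of_card_eq N ?_
    rw [card_normal hbot, heq, h, Subgroup.card_top, hScard, card_evenAut]

end CfsgLib.HSGraph
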