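import Cfsg.Agent.HSGraph.Integrality
import Cfsg.Agent.HSGraph.Simple

/-! A rank three group of degree 100 with point stabiliser of order 443520 and subdegrees 22 and 77
is the group of even automorphisms of the standard graph. -/

set_option autoImplicit false
set_option linter.unusedSectionVars false

open Finset

namespace CfsgLib.HSGraph

open Cfsg

/-- The even automorphisms are the only subgroup of their order in the group of the graph. -/
theorem eq_evenAut {K : Subgroup (stdGraph ≃g stdGraph)} (hK : Nat.card K = 44352000) : K = evenAut := by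
  have := finite_aut stdGraph
  have := isSimpleGroup_evenAut
  have hidx : K.index = 2 := by
    have h := Subgroup.index_mul_card K
    rw [card_aut_std, hK] at h
    omega
  have := Subgroup.normal_of_index_eq_two hidx
  rcases (inferInstance : (K.subgroupOf evenAut).Normal).eq_bot_or_eq_top with h | h
  · exfalso
    have h1 : (K.subgroupOf evenAut).index = K.relIndex evenAut := rfl
    rw [h, Subgroup.index_bot, card_evenAut] at h1
    have h2 : K.relIndex evenAut ∣ K.index := Subgroup.relIndex_dvd_index_of_normal K evenAut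
    rw [hidx] at h2
    have := Nat.le_of_dvd (by norm_num) h2
    omega
  · exact (Subgroup.eq_of_le_of_card_ge (Subgroup.subgroupOf_eq_top.1 h) (by rw [hK, card_evenAut])).symm

/-- A faithful action on a copy of the graph by a group of the right order. -/
theorem mulEquiv_evenAut {Ω : Type*} {Γ : SimpleGraph Ω} (φ : Γ ≃g stdGraph) {H : Type*} [Group H]
    (f : H →* (Γ ≃g Γ)) (hf : Function.Injective f) (hcard : Nat.card H = 44352000) :
    Nonempty (H ≃* evenAut) := by
  have hinj : Function.Injective ((autCongr φ).toMonoidHom.comp f) := (autCongr φ).injective.comp hf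
  have e := MonoidHom.ofInjective hinj
  have hr : ((autCongr φ).toMonoidHom.comp f).range = evenAut :=
    eq_evenAut (by rw [← Nat.card_congr e.toEquiv, hcard])
  exact ⟨e.trans (MulEquiv.subgroupCongr hr)⟩

variable {Ω : Type*} [Fintype Ω] [DecidableEq Ω] (G : Subgroup (Equiv.Perm Ω))

/-- The orbital graph of a suborbit. -/
def orbital (a b : Ω) : SimpleGraph Ω where
  Adj x y := x ≠ y ∧ ((∃ g ∈ G, g a = x ∧ g b = y) ∨ ∃ g ∈ G, g a = y ∧ g b = x)
  symm := ⟨fun _ _ h => ⟨h.1.symm, h.2.symm⟩⟩
  loopless := ⟨fun _ h => h.1 rfl⟩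

theorem orbital_map (a b : Ω) {g : Equiv.Perm Ω} (hg : g ∈ G) {x y : Ω} :
    (orbital G a b).Adj (g x) (g y) ↔ (orbital G a b).Adj x y := by
  constructor
  · rintro ⟨hne, ⟨k, hk, h1, h2⟩ | ⟨k, hk, h1, h2⟩⟩
    · exact ⟨fun e => hne (e ▸ rfl), Or.inl ⟨g⁻¹ * k, G.mul_mem (G.inv_mem hg) hk,
        by simp [h1], by simp [h2]⟩⟩
    · exact ⟨fun e => hne (e ▸ rfl), Or.inr ⟨g⁻¹ * k, G.mul_mem (G.inv_mem hg) hk,
        by simp [h1], by simp [h2]⟩⟩
  · rintro ⟨hne, ⟨k, hk, h1, h2⟩ | ⟨k, hk, h1, h2⟩⟩
    · exact ⟨fun e => hne (g.injective e), Or.inl ⟨g * k, G.mul_mem hg hk, by simp [h1], by simp [h2]⟩⟩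
    · exact ⟨fun e => hne (g.injective e), Or.inr ⟨g * k, G.mul_mem hg hk, by simp [h1], by simp [h2]⟩⟩

theorem iso_evenAut (hΩ : Fintype.card Ω = 100) [MulAction.IsPretransitive G Ω] (a b c : Ω)
    (hS : Nat.card (MulAction.stabilizer G a) = 443520)
    (hb : (MulAction.orbit (MulAction.stabilizer G a) b).ncard = 22)
    (hc : (MulAction.orbit (MulAction.stabilizer G a) c).ncard = 77) :
    Nonempty (G ≃* evenAut) := by
  classical
  set O1 := MulAction.orbit (MulAction.stabilizer G a) b with hO1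
  set O2 := MulAction.orbit (MulAction.stabilizer G a) c with hO2
  have hfix : ∀ (g : MulAction.stabilizer G a), (g : Equiv.Perm Ω) a = a := fun g => g.2
  have hane : ∀ {d : Ω} {n : ℕ}, (MulAction.orbit (MulAction.stabilizer G a) d).ncard = n → n ≠ 1 →
      a ∉ MulAction.orbit (MulAction.stabilizer G a) d := by
    intro d n hd hn ha
    have he : MulAction.orbit (MulAction.stabilizer G a) d = {a} := by
      rw [← MulAction.orbit_eq_iff.2 ha]
      ext y
      constructor
      · rintro ⟨g, rfl⟩; exact g.2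
      · rintro rfl; exact MulAction.mem_orbit_self _
    rw [he, Set.ncard_singleton] at hd
    exact hn hd.symm
  have hdisj : Disjoint O1 O2 := by
    rcases MulAction.orbit.eq_or_disjoint (G := MulAction.stabilizer G a) b c with e | e
    · rw [hO1, e, hc] at hb; omega
    · exact e
  have hcover : ∀ y, y = a ∨ y ∈ O1 ∨ y ∈ O2 := by
    intro y
    by_contra hno
    simp only [not_or] at hno
    have h1 : ({y, a} ∪ O1 ∪ O2 : Set Ω).ncard = 101 := by
      have d1 : Disjoint ({y, a} : Set Ω) O1 := by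
        rw [Set.disjoint_insert_left, Set.disjoint_singleton_left]
        exact ⟨hno.2.1, hane hb (by norm_num)⟩
      have d2 : Disjoint ({y, a} ∪ O1 : Set Ω) O2 := by
        rw [Set.disjoint_union_left, Set.disjoint_insert_left, Set.disjoint_singleton_left]
        exact ⟨⟨hno.2.2, hane hc (by norm_num)⟩, hdisj⟩
      rw [Set.ncard_union_eq d2, Set.ncard_union_eq d1, Set.ncard_pair hno.1, hb, hc]
    have h2 := Set.ncard_le_card ({y, a} ∪ O1 ∪ O2 : Set Ω)
    rw [h1, Nat.card_eq_fintype_card, hΩ] at h2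
    omega
  -- the out-neighbours and in-neighbours of the first suborbit
  have hout : ∀ g ∈ G, ∀ y, (∃ k ∈ G, k a = g a ∧ k b = y) ↔ g⁻¹ y ∈ O1 := by
    intro g hg y
    constructor
    · rintro ⟨k, hk, h1, h2⟩
      have hmem : (⟨g⁻¹ * k, G.mul_mem (G.inv_mem hg) hk⟩ : G) ∈ MulAction.stabilizer G a := by
        show (g⁻¹ * k) a = a
        simp [h1]
      exact ⟨⟨_, hmem⟩, show (g⁻¹ * k) b = g⁻¹ y by simp [h2]⟩
    · rintro ⟨s, hs⟩
      have hs' : (s : Equiv.Perm Ω) b = g⁻¹ y := hs
      exact ⟨g * (s : Equiv.Perm Ω), G.mul_mem hg s.1.2, by simp [hfix s], by simp [hs']⟩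
  have hsym : ∃ g ∈ G, g b = a ∧ g a ∈ O1 := by
    set In := (univ : Finset Ω).filter fun y => ∃ k ∈ G, k a = y ∧ k b = a with hIn
    have hcount : In.card = 22 := by
      have h := sum_card_bipartiteAbove_eq_sum_card_bipartiteBelow
        (fun x y : Ω => ∃ k ∈ G, k a = x ∧ k b = y) (s := univ) (t := univ)
      have ho : ∀ x : Ω, ((univ : Finset Ω).filter fun y => ∃ k ∈ G, k a = x ∧ k b = y).card = 22 := by
        intro x
        obtain ⟨g, rfl⟩ := MulAction.exists_smul_eq G a x
        rw [← hb, ← Set.ncard_coe_finset]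
        refine Eq.trans ?_ (Set.ncard_image_of_injective O1 (g : Equiv.Perm Ω).injective)
        congr 1
        ext y
        simp only [coe_filter, mem_univ, true_and, Set.mem_ofPred_eq, Set.mem_image]
        rw [show (g • a) = (g : Equiv.Perm Ω) a from rfl, hout _ g.2]
        exact ⟨fun h => ⟨_, h, by simp⟩, fun ⟨z, hz, e⟩ => by subst e; simpa using hz⟩
      have hi : ∀ x : Ω, ((univ : Finset Ω).filter fun y => ∃ k ∈ G, k a = y ∧ k b = x).card = In.card := by
        intro x
        obtain ⟨g, rfl⟩ := MulAction.exists_smul_eq G a x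
        refine card_bij' (fun y _ => (g : Equiv.Perm Ω)⁻¹ y) (fun y _ => (g : Equiv.Perm Ω) y) ?_ ?_ ?_ ?_
        · intro y hy
          obtain ⟨k, hk, h1, h2⟩ := (mem_filter.1 hy).2
          exact mem_filter.2 ⟨mem_univ _, (g : Equiv.Perm Ω)⁻¹ * k, G.mul_mem (G.inv_mem g.2) hk,
            by simp [h1], by rw [Equiv.Perm.mul_apply, h2]; exact (g : Equiv.Perm Ω).symm_apply_apply a⟩
        · intro y hy
          obtain ⟨k, hk, h1, h2⟩ := (mem_filter.1 hy).2
          exact mem_filter.2 ⟨mem_univ _, (g : Equiv.Perm Ω) * k, G.mul_mem g.2 hk,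
            by simp [h1], by rw [Equiv.Perm.mul_apply, h2]; rfl⟩
        · intro y _; simp
        · intro y _; simp
      simp only [bipartiteAbove, bipartiteBelow] at h
      rw [sum_congr rfl fun x _ => ho x, sum_congr rfl fun x _ => hi x, sum_const, sum_const, card_univ,
        hΩ] at h
      simp only [smul_eq_mul] at h
      omega
    by_contra hno
    push Not at hno
    have hsub : In ⊆ O2.toFinset := by
      intro y hy
      obtain ⟨k, hk, h1, h2⟩ := (mem_filter.1 hy).2
      rw [Set.mem_toFinset]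
      rcases hcover y with rfl | h | h
      · exact absurd (k.injective (h2.trans h1.symm)) (fun e => hane hb (by norm_num) (e ▸ MulAction.mem_orbit_self b))
      · exact absurd (h1 ▸ h) (hno k hk h2)
      · exact h
    obtain ⟨y, hy⟩ := card_pos.1 (by omega : 0 < In.card)
    have hyO := Set.mem_toFinset.1 (hsub hy)
    have hsup : O2.toFinset ⊆ In := by
      intro z hz
      obtain ⟨s, hs⟩ := (MulAction.orbit_eq_iff.2 hyO).ge (Set.mem_toFinset.1 hz)
      have hs' : (s : Equiv.Perm Ω) y = z := hs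
      obtain ⟨k, hk, h1, h2⟩ := (mem_filter.1 hy).2
      exact mem_filter.2 ⟨mem_univ _, (s : Equiv.Perm Ω) * k, G.mul_mem s.1.2 hk, by simp [h1, hs'],
        by rw [Equiv.Perm.mul_apply, h2, hfix s]⟩
    have := card_le_card hsup
    rw [← Set.ncard_eq_toFinset_card', hc, hcount] at this
    omega
  obtain ⟨g0, hg0, hg0b, hg0a⟩ := hsym
  -- the neighbours of a
  have hadj : ∀ y, (orbital G a b).Adj a y ↔ y ∈ O1 := by
    intro y
    constructor
    · rintro ⟨-, h | ⟨k, hk, h1, h2⟩⟩
      · have := (hout 1 G.one_mem y).1 (by simpa using h)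
        simpa using this
      · obtain ⟨s, hs⟩ := hg0a
        have hs' : (s : Equiv.Perm Ω) b = g0 a := hs
        have hmem : (⟨k * g0⁻¹, G.mul_mem hk (G.inv_mem hg0)⟩ : G) ∈ MulAction.stabilizer G a := by
          show (k * g0⁻¹) a = a
          rw [Equiv.Perm.mul_apply, show g0⁻¹ a = b from g0.injective (by simp [hg0b]), h2]
        refine ⟨⟨_, hmem⟩ * s, ?_⟩
        show (k * g0⁻¹) ((s : Equiv.Perm Ω) b) = y
        rw [hs', Equiv.Perm.mul_apply, Equiv.Perm.coe_inv, Equiv.symm_apply_apply, h1]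
    · intro hy
      refine ⟨fun e => hane hb (by norm_num) (show a ∈ O1 by rw [e]; exact hy), Or.inl ?_⟩
      have := (hout 1 G.one_mem y).2 (by simpa using hy)
      simpa using this
  have hmove : ∀ x, ∃ g ∈ G, g x = a := fun x => by
    obtain ⟨g, hg⟩ := MulAction.exists_smul_eq G x a
    exact ⟨g, g.2, hg⟩
  have hO1move : ∀ y ∈ O1, ∀ y' ∈ O1, ∃ g ∈ G, g a = a ∧ g y = y' := by
    intro y hy y' hy'
    obtain ⟨s, hs⟩ := (MulAction.orbit_eq_iff.2 hy).ge hy'
    exact ⟨s.1.1, s.1.2, hfix s, hs⟩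
  have hO2move : ∀ y ∈ O2, ∀ y' ∈ O2, ∃ g ∈ G, g a = a ∧ g y = y' := by
    intro y hy y' hy'
    obtain ⟨s, hs⟩ := (MulAction.orbit_eq_iff.2 hy).ge hy'
    exact ⟨s.1.1, s.1.2, hfix s, hs⟩
  have hcommon : ∀ g ∈ G, ∀ x y, Fintype.card ((orbital G a b).commonNeighbors (g x) (g y)) =
      Fintype.card ((orbital G a b).commonNeighbors x y) := by
    intro g hg x y
    symm
    refine Fintype.card_congr (g.subtypeEquiv fun z => ?_)
    simp only [SimpleGraph.mem_commonNeighbors, orbital_map G a b hg]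
  have hcard1 : ∀ (T : Set Ω) [Fintype T], T = O1 → Fintype.card T = 22 := fun T _ e => by
    subst e; rw [← Nat.card_eq_fintype_card, Nat.card_coe_set_eq, hb]
  have hreg : (orbital G a b).IsRegularOfDegree 22 := by
    intro x
    obtain ⟨g, hg, hgx⟩ := hmove x
    rw [← SimpleGraph.card_neighborSet_eq_degree]
    refine Eq.trans (Fintype.card_congr (g.subtypeEquiv (q := fun y => y ∈ O1) fun z => ?_)) ?_
    · rw [SimpleGraph.mem_neighborSet, ← orbital_map G a b hg, hgx, hadj]
    · exact hcard1 O1 rfl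
  set lam := Fintype.card ((orbital G a b).commonNeighbors a b) with hlam
  set mu := Fintype.card ((orbital G a b).commonNeighbors a c) with hmu
  have hnadj : ∀ y, y ≠ a → ¬ (orbital G a b).Adj a y → y ∈ O2 := fun y hne hn =>
    ((hcover y).resolve_left hne).resolve_left fun h => hn ((hadj y).2 h)
  have hsrg : (orbital G a b).IsSRGWith 100 22 lam mu := by
    refine ⟨hΩ, hreg, fun x y h => ?_, fun x y hne h => ?_⟩
    · obtain ⟨g, hg, hgx⟩ := hmove x
      rw [← hcommon g hg, hgx]
      rw [← orbital_map G a b hg, hgx, hadj] at h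
      obtain ⟨k, hk, hka, hkb⟩ := hO1move b (MulAction.mem_orbit_self b) _ h
      rw [hlam, ← hcommon k hk a b, hka, hkb]
    · obtain ⟨g, hg, hgx⟩ := hmove x
      rw [← hcommon g hg, hgx]
      rw [← orbital_map G a b hg, hgx] at h
      have hne' : g y ≠ a := fun e => hne (g.injective (hgx.trans e.symm))
      obtain ⟨k, hk, hka, hkc⟩ := hO2move c (MulAction.mem_orbit_self c) _ (hnadj _ hne' h)
      rw [hmu, ← hcommon k hk a c, hka, hkc]
  have hlk : lam < 22 := by
    have hab : (orbital G a b).Adj a b := (hadj b).2 (MulAction.mem_orbit_self b)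
    have := hab.card_commonNeighbors_lt_degree
    rwa [hreg a] at this
  have hpe := SimpleGraph.IsSRGWith.param_eq _ hsrg (by norm_num)
  have hlm : lam = 0 ∧ mu = 6 ∨ lam = 7 ∧ mu = 4 ∨ lam = 14 ∧ mu = 2 ∨ lam = 21 ∧ mu = 0 := by
    clear_value lam mu
    omega
  have hfinal : lam = 0 ∧ mu = 6 := by
    rcases hlm with h | ⟨e1, e2⟩ | ⟨e1, e2⟩ | ⟨e1, e2⟩
    · exact h
    all_goals
      exfalso
      rw [e1, e2] at hsrg
      obtain ⟨z, hz⟩ := srg_integrality hsrg (by norm_num) (by norm_num) (by norm_num) (by norm_num)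
      norm_num at hz
      have hlo : -2000 < z ∧ z < 2000 := ⟨by nlinarith, by nlinarith⟩
      have hz2 : z.natAbs ^ 2 = (z ^ 2).natAbs := by rw [Int.natAbs_pow]
      obtain ⟨w, hw⟩ : ∃ w : ℕ, (w : ℤ) = z ^ 2 := ⟨(z ^ 2).natAbs, Int.natAbs_of_nonneg (sq_nonneg z)⟩
      rw [← hw] at hz
      have hz3 : (z.natAbs : ℤ) ^ 2 = z ^ 2 := by rw [Int.natCast_natAbs, sq_abs]
      first
        | omega
        | (have h1 : z.natAbs < 83 := by
            by_contra hge
            have : (83 : ℤ) ^ 2 ≤ z ^ 2 := hz3 ▸ pow_le_pow_left₀ (by norm_num) (by exact_mod_cast not_lt.1 hge) 2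
            omega
           have h2 : 82 < z.natAbs := by
            by_contra hle
            have : z ^ 2 ≤ (82 : ℤ) ^ 2 := hz3 ▸ pow_le_pow_left₀ (by positivity) (by exact_mod_cast not_lt.1 hle) 2
            omega
           omega)
  rw [hfinal.1, hfinal.2] at hsrg
  obtain ⟨φ, -⟩ := exists_iso_std hsrg a
  let f : G →* (orbital G a b ≃g orbital G a b) :=
    MonoidHom.mk' (fun g => ⟨(g : Equiv.Perm Ω), orbital_map G a b g.2⟩) fun g h => RelIso.ext fun _ => rfl
  refine mulEquiv_evenAut φ f (fun g h e => Subtype.ext (Equiv.ext fun x =>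
    congrArg (fun u : orbital G a b ≃g orbital G a b => u x) e)) ?_
  have h := Subgroup.index_mul_card (MulAction.stabilizer G a)
  rw [MulAction.index_stabilizer_of_transitive, hS, Nat.card_eq_fintype_card (α := Ω), hΩ] at h
  omega

end CfsgLib.HSGraph
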