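import Mathlib
import Cfsg.Agent.LeechTriples.HSTransfer
import Cfsg.Agent.LeechTriples.Counts
import Cfsg.Agent.Leech.McLSimple
import Cfsg.Agent.HSGraph.RankThree

/-! The joint stabiliser `HS` has order 44352000, is simple, and is the group of even automorphisms
of the standard graph on 100 vertices. -/

set_option autoImplicit false
set_option linter.style.haveILetI false

namespace CfsgLib.HSGraph

open Cfsg CfsgLib.Leech CfsgLib.LeechTriples
open scoped Pointwise

theorem card_hsStab {v c : leechLattice} (hv : nrm v = 48) (hc : nrm c = 32) (hd : ip c v = 16) :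
    Nat.card (pairStab v c) = 44352000 := by
  have h := card_pairStab_mul (fun x => x ∈ nbrs v 16) (v := v) (w := c) fun x => by
    constructor
    · intro hx
      rw [mem_nbrs] at hx
      obtain ⟨g, g1, g2⟩ := exists_hsPair c v x v hc hv hd hx.1 hv (by rw [ip_comm]; exact hx.2)
      exact ⟨g, g2, g1⟩
    · rintro ⟨g, hg, rfl⟩
      refine mem_nbrs.2 ⟨by rw [nrm_smul, hc], ?_⟩
      have := ip_smul g v c
      rw [hg] at this
      rw [this, ip_comm, hd]
  change _ * (↑(nbrs v 16) : Set leechLattice).ncard = _ at h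
  rw [Set.ncard_coe_finset, card_nbrs48 hv, card_stab_48 hv] at h
  omega

theorem hsStab_isSimpleGroup {v c : leechLattice} (hv : nrm v = 48) (hc : nrm c = 32)
    (hd : ip c v = 16) : IsSimpleGroup (pairStab v c) := by
  obtain ⟨h1, h2, h3⟩ := hs_base
  obtain ⟨g, g1, g2⟩ := exists_hsPair c v Spor.leechU' fiveVec hc hv hd h2 h1
    (by rw [ip_comm]; exact h3)
  haveI := hs_base_isSimpleGroup (card_hsStab h1 h2 (by rw [ip_comm]; exact h3))
  exact (pairStabEquiv g2 g1).isSimpleGroup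

theorem mem_hsSet' {v c y : leechLattice} :
    y ∈ hsSet v (c - v) ↔ nrm y = 32 ∧ ip c y = 0 ∧ ip v y = 24 := by
  rw [mem_hsSet, show v + (c - v) = c by abel]

/-- The action of the joint stabiliser on the 100 points. -/
noncomputable def hsAction (v c : leechLattice) :
    pairStab v c →* Equiv.Perm (hsSet v (c - v)) where
  toFun g :=
    { toFun := fun y => ⟨g.1 • y.1, by
        obtain ⟨h1, h2, h3⟩ := mem_hsSet'.1 y.2
        refine mem_hsSet'.2 ⟨by rw [nrm_smul, h1], ?_, ?_⟩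
        · have := ip_smul g.1 c y.1
          rw [show g.1 • c = c from g.2.2] at this
          rw [this, h2]
        · have := ip_smul g.1 v y.1
          rw [show g.1 • v = v from g.2.1] at this
          rw [this, h3]⟩
      invFun := fun y => ⟨g.1⁻¹ • y.1, by
        obtain ⟨h1, h2, h3⟩ := mem_hsSet'.1 y.2
        refine mem_hsSet'.2 ⟨by rw [nrm_smul, h1], ?_, ?_⟩
        · have := ip_smul g.1⁻¹ c y.1
          rw [inv_smul_eq_iff.2 (show c = g.1 • c from g.2.2.symm)] at this
          rw [this, h2]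
        · have := ip_smul g.1⁻¹ v y.1
          rw [inv_smul_eq_iff.2 (show v = g.1 • v from g.2.1.symm)] at this
          rw [this, h3]⟩
      left_inv := fun y => Subtype.ext (inv_smul_smul g.1 y.1)
      right_inv := fun y => Subtype.ext (smul_inv_smul g.1 y.1) }
  map_one' := Equiv.ext fun y => Subtype.ext (one_smul Co0 y.1)
  map_mul' g h := Equiv.ext fun y => Subtype.ext (mul_smul g.1 h.1 y.1)

theorem hsAction_apply (v c : leechLattice) (g : pairStab v c) (y : hsSet v (c - v)) :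
    ((hsAction v c g y : hsSet v (c - v)) : leechLattice) = g.1 • y.1 := rfl

theorem hsStab_iso_evenAut {v c : leechLattice} (hv : nrm v = 48) (hc : nrm c = 32)
    (hd : ip c v = 16) : Nonempty (pairStab v c ≃* evenAut) := by
  classical
  have hw : nrm (c - v) = 48 := by
    have h := nrm_add c (-v)
    rw [← sub_eq_add_neg, nrm_neg, ip_neg_right, hc, hv, hd] at h
    rw [h]; norm_num
  have hvw : ip v (c - v) = -32 := by
    rw [sub_eq_add_neg, ip_add_right, ip_neg_right, ip_comm, hd, ip_self, hv]; norm_num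
  have h100 := ncard_hsSet hv hw hvw
  haveI : Finite (hsSet v (c - v)) := (Set.finite_of_ncard_ne_zero (by omega)).to_subtype
  haveI := Fintype.ofFinite (hsSet v (c - v))
  have hΩ : Fintype.card (hsSet v (c - v)) = 100 := by
    rw [← Nat.card_eq_fintype_card, Nat.card_coe_set_eq, h100]
  have hfix : ∀ g : Co0, g • v = v → g • (c - v) = c - v → g ∈ pairStab v c := fun g h1 h2 => by
    refine ⟨h1, show g • c = c from ?_⟩
    have := co0_map_add g v (c - v)
    rw [h1, h2, show v + (c - v) = c by abel] at this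
    exact this
  have htr : ∀ x y : hsSet v (c - v), ∃ g, hsAction v c g x = y := fun x y => by
    obtain ⟨g, g1, g2, g3⟩ := hsSet_transitive hv hw hvw x.2 y.2
    exact ⟨⟨g, hfix g g1 g2⟩, Subtype.ext g3⟩
  haveI := hsStab_isSimpleGroup hv hc hd
  have hinj : Function.Injective (hsAction v c) := by
    rw [← MonoidHom.ker_eq_bot_iff]
    rcases (inferInstance : (hsAction v c).ker.Normal).eq_bot_or_eq_top with h | h
    · exact h
    · exfalso
      obtain ⟨x, y, hxy⟩ := Fintype.exists_pair_of_one_lt_card (α := hsSet v (c - v)) (by omega)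
      obtain ⟨g, hg⟩ := htr x y
      have : g ∈ (hsAction v c).ker := h ▸ Subgroup.mem_top g
      rw [MonoidHom.mem_ker.1 this] at hg
      exact hxy hg
  set G := (hsAction v c).range
  haveI : MulAction.IsPretransitive G (hsSet v (c - v)) := ⟨fun x y => by
    obtain ⟨g, hg⟩ := htr x y
    exact ⟨⟨_, g, rfl⟩, hg⟩⟩
  have eG := MonoidHom.ofInjective hinj
  have hG : Nat.card G = 44352000 := by rw [← Nat.card_congr eG.toEquiv, card_hsStab hv hc hd]
  obtain ⟨x, hx⟩ := exists_mem_hsSet hv hw hvw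
  obtain ⟨n1, n2, n3⟩ := hsSet_rank3 hv hw hvw hx
  set a : hsSet v (c - v) := ⟨x, hx⟩
  have hS : Nat.card (MulAction.stabilizer G a) = 443520 := by
    have h := Subgroup.index_mul_card (MulAction.stabilizer G a)
    rw [MulAction.index_stabilizer_of_transitive G a, Nat.card_eq_fintype_card (α := hsSet v (c - v)),
      hΩ, hG] at h
    omega
  have horb : ∀ {P : leechLattice → Prop} {y : leechLattice} (hy : y ∈ hsSet v (c - v)), P y →
      y ≠ x → (∀ z ∈ hsSet v (c - v), z ≠ x → (P z ↔ (ip x y = 8 ↔ ip x z = 8))) → ¬ P x →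
      (MulAction.orbit (MulAction.stabilizer G a) (⟨y, hy⟩ : hsSet v (c - v))).ncard =
        {z | z ∈ hsSet v (c - v) ∧ P z}.ncard := by
    intro P y hy hP hyx hiff hPx
    rw [← Set.ncard_image_of_injective _ Subtype.val_injective]
    congr 1
    ext z
    constructor
    · rintro ⟨_, ⟨⟨⟨_, g, rfl⟩, hga⟩, rfl⟩, rfl⟩
      have hgx : g.1 • x = x := congrArg Subtype.val (show hsAction v c g a = a from hga)
      refine ⟨(hsAction v c g ⟨y, hy⟩).2, ?_⟩
      have hne : g.1 • y ≠ x := fun e => hyx (smul_left_cancel g.1 (e.trans hgx.symm))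
      refine (hiff _ (hsAction v c g ⟨y, hy⟩).2 hne).2 ?_
      show ip x y = 8 ↔ ip x (g.1 • y) = 8
      have := ip_smul g.1 x y
      rw [hgx] at this
      rw [this]
    · rintro ⟨hz, hPz⟩
      have hzx : z ≠ x := fun e => hPx (e ▸ hPz)
      obtain ⟨g, g1, g2, g3, g4⟩ := n3 y hy z hz hyx hzx ((hiff z hz hzx).1 hPz)
      exact ⟨⟨z, hz⟩, ⟨⟨⟨_, ⟨g, hfix g g1 g2⟩, rfl⟩, Subtype.ext g3⟩, Subtype.ext g4⟩, rfl⟩
  have hxx : ¬ ip x x = 8 := by rw [ip_self, (mem_hsSet.1 hx).1]; norm_num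
  obtain ⟨b, hb, hb8⟩ : {y | y ∈ hsSet v (c - v) ∧ ip x y = 8}.Nonempty :=
    Set.nonempty_of_ncard_ne_zero (by omega)
  obtain ⟨d, hdm, hd1, hd2⟩ : {y | y ∈ hsSet v (c - v) ∧ y ≠ x ∧ ip x y ≠ 8}.Nonempty :=
    Set.nonempty_of_ncard_ne_zero (by omega)
  have hb' := horb (P := fun z => ip x z = 8) hb hb8 (fun e => hxx (e ▸ hb8))
    (fun z _ _ => by simp [hb8]) hxx
  have hd' := horb (P := fun z => z ≠ x ∧ ip x z ≠ 8) hdm ⟨hd1, hd2⟩ hd1
    (fun z _ hz => by simp [hz, hd2]) (fun h => h.1 rfl)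
  obtain ⟨e⟩ := iso_evenAut G hΩ a ⟨b, hb⟩ ⟨d, hdm⟩ hS (hb'.trans n1) (hd'.trans n2)
  exact ⟨eG.trans e⟩

theorem hs_vectors : nrm Spor.leechV = 48 ∧ nrm (-Spor.leechU') = 32 ∧
    ip (-Spor.leechU') Spor.leechV = 16 := by
  refine ⟨nrm_leechV, by rw [nrm_neg]; exact hs_base.2.1, ?_⟩
  rw [ip_comm, ip_neg_right]
  show -dotInt Spor.vecV Spor.vecU' = 16
  decide +kernel

/-- The defining joint stabiliser of `Spor.HS`, inside `Co0`. -/
def sporHSEquiv : Spor.HS ≃* pairStab Spor.leechV (-Spor.leechU') where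
  toFun g := ⟨⟨g.1, g.2.1.1⟩, g.2.1.2,
    show (⟨g.1, g.2.1.1⟩ : Co0) • (-Spor.leechU') = -Spor.leechU' by
      rw [co0_map_neg]; exact congrArg Neg.neg g.2.2⟩
  invFun g := ⟨g.1.1, ⟨g.1.2, g.2.1⟩,
    show g.1 • Spor.leechU' = Spor.leechU' by
      have h : g.1 • (-Spor.leechU') = -Spor.leechU' := g.2.2
      rw [co0_map_neg, neg_inj] at h
      exact h⟩
  left_inv _ := rfl
  right_inv _ := rfl
  map_mul' _ _ := rfl

theorem card_sporHS : Nat.card Spor.HS = 44352000 := by
  obtain ⟨h1, h2, h3⟩ := hs_vectors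
  rw [Nat.card_congr sporHSEquiv.toEquiv, card_hsStab h1 h2 h3]

theorem isSimpleGroup_sporHS : IsSimpleGroup Spor.HS := by
  obtain ⟨h1, h2, h3⟩ := hs_vectors
  haveI := hsStab_isSimpleGroup h1 h2 h3
  exact sporHSEquiv.isSimpleGroup

theorem sporHS_iso_evenAut : Nonempty (Spor.HS ≃* evenAut) := by
  obtain ⟨h1, h2, h3⟩ := hs_vectors
  obtain ⟨e⟩ := hsStab_iso_evenAut h1 h2 h3
  exact ⟨sporHSEquiv.trans e⟩

end CfsgLib.HSGraph
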