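import Cfsg.Agent.HSGraph.Iso
import Cfsg.Agent.DesignUnique.Aut

/-! The automorphism group of the standard graph. -/

set_option autoImplicit false

open scoped Pointwise

namespace CfsgLib.HSGraph

open Cfsg CfsgLib.DesignUnique

section ext

variable {α : Type*} [Fintype α] [DecidableEq α] {B : Set (Finset α)}

/-- The action of an automorphism of a set system on its members. -/
def blockPerm (σ : setSystemAut B) : Equiv.Perm B where
  toFun b := ⟨(σ : Equiv.Perm α) • (b : Finset α), mem_aut_iff.1 σ.2 _ b.2⟩
  invFun b := ⟨((σ⁻¹ : setSystemAut B) : Equiv.Perm α) • (b : Finset α), mem_aut_iff.1 (σ⁻¹).2 _ b.2⟩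
  left_inv b := Subtype.ext (by simp)
  right_inv b := Subtype.ext (by simp)

/-- An automorphism of a set system acting on the point-block graph. -/
def extAut : setSystemAut B →* (pointBlockGraph B ≃g pointBlockGraph B) :=
  MonoidHom.mk' (fun σ =>
    { toEquiv := Equiv.optionCongr (Equiv.sumCongr (σ : Equiv.Perm α) (blockPerm σ))
      map_rel_iff' := by
        rintro (_ | a | b) (_ | a' | c)
        · exact iff_of_false ((pointBlockGraph B).irrefl) ((pointBlockGraph B).irrefl)
        · exact iff_of_true (adj_none_point _) (adj_none_point _)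
        · exact iff_of_false (not_adj_none_block _) (not_adj_none_block _)
        · exact iff_of_true (adj_none_point _).symm (adj_none_point _).symm
        · exact iff_of_false (not_adj_point_point _ _) (not_adj_point_point _ _)
        · show (pointBlockGraph B).Adj (some (Sum.inl ((σ : Equiv.Perm α) a)))
            (some (Sum.inr (blockPerm σ c))) ↔ _
          rw [adj_point_block, adj_point_block]
          exact Finset.smul_mem_smul_finset_iff (σ : Equiv.Perm α)
        · exact iff_of_false (fun h => not_adj_none_block _ h.symm) (fun h => not_adj_none_block _ h.symm)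
        · show (pointBlockGraph B).Adj (some (Sum.inr (blockPerm σ b)))
            (some (Sum.inl ((σ : Equiv.Perm α) a'))) ↔ _
          rw [SimpleGraph.adj_comm, adj_point_block, SimpleGraph.adj_comm, adj_point_block]
          exact Finset.smul_mem_smul_finset_iff (σ : Equiv.Perm α)
        · show (pointBlockGraph B).Adj (some (Sum.inr (blockPerm σ b)))
            (some (Sum.inr (blockPerm σ c))) ↔ _
          rw [adj_block_block, adj_block_block, (blockPerm σ).injective.ne_iff]
          refine and_congr_right fun _ => ?_
          show Disjoint ((σ : Equiv.Perm α) • (b : Finset α)) ((σ : Equiv.Perm α) • (c : Finset α)) ↔ _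
          rw [Finset.smul_finset_def, Finset.smul_finset_def]
          exact Finset.disjoint_image (MulAction.injective _) })
    fun σ τ => RelIso.ext fun v => by
      rcases v with _ | a | b
      · rfl
      · rfl
      · show (some (Sum.inr (blockPerm (σ * τ) b)) : Option (α ⊕ B)) =
          some (Sum.inr (blockPerm σ (blockPerm τ b)))
        congr 2
        exact Subtype.ext (mul_smul _ _ _)

theorem extAut_none (σ : setSystemAut B) : extAut σ none = none := rfl

theorem extAut_point (σ : setSystemAut B) (a : α) :
    extAut σ (some (Sum.inl a)) = some (Sum.inl ((σ : Equiv.Perm α) a)) := rfl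

theorem extAut_block (σ : setSystemAut B) (b : B) :
    extAut σ (some (Sum.inr b)) = some (Sum.inr (blockPerm σ b)) := rfl

theorem extAut_injective : Function.Injective (extAut (B := B)) := fun σ τ h => by
  refine Subtype.ext (Equiv.ext fun a => ?_)
  have := congrArg (fun f : pointBlockGraph B ≃g pointBlockGraph B => f (some (Sum.inl a))) h
  simpa [extAut_point] using this

theorem range_extAut :
    (extAut (B := B)).range =
      MulAction.stabilizer (pointBlockGraph B ≃g pointBlockGraph B) (none : Option (α ⊕ B)) := by
  apply le_antisymm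
  · rintro _ ⟨σ, rfl⟩
    exact extAut_none σ
  intro f hf
  have hf0 : f none = none := hf
  have hf1 : f.symm none = none := f.injective (by rw [RelIso.apply_symm_apply, hf0])
  have hpt : ∀ (g : pointBlockGraph B ≃g pointBlockGraph B), g none = none →
      ∀ a, ∃ a', g (some (Sum.inl a)) = some (Sum.inl a') := by
    intro g hg a
    have h : (pointBlockGraph B).Adj (g none) (g (some (Sum.inl a))) :=
      g.map_rel_iff.2 (adj_none_point a)
    rw [hg] at h
    revert h
    rcases g (some (Sum.inl a)) with _ | a' | b
    · exact fun h => absurd h ((pointBlockGraph B).irrefl)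
    · exact fun _ => ⟨a', rfl⟩
    · exact fun h => absurd h (not_adj_none_block b)
  choose s hs using hpt f hf0
  have hinj : Function.Injective s := fun a a' e => by
    have := f.injective ((hs a).trans (e ▸ (hs a').symm))
    exact Sum.inl.inj (Option.some.inj this)
  let σ : Equiv.Perm α := Equiv.ofBijective s ((Finite.injective_iff_bijective).1 hinj)
  have hblk : ∀ b : B, ∃ c : B, f (some (Sum.inr b)) = some (Sum.inr c) ∧
      σ • (b : Finset α) = (c : Finset α) := by
    intro b
    rcases hv : f (some (Sum.inr b)) with _ | a | c
    · exact absurd (f.injective (hv.trans hf0.symm)) (by simp)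
    · have h : ¬ (pointBlockGraph B).Adj (f none) (f (some (Sum.inr b))) :=
        fun h => not_adj_none_block b (f.map_rel_iff.1 h)
      rw [hv, hf0] at h
      exact absurd (adj_none_point a) h
    · refine ⟨c, rfl, Finset.ext fun y => ?_⟩
      obtain ⟨a, rfl⟩ := σ.surjective y
      have h := f.map_rel_iff (a := some (Sum.inl a)) (b := some (Sum.inr b))
      rw [hs, hv, adj_point_block, adj_point_block] at h
      exact (Finset.smul_mem_smul_finset_iff σ).trans h.symm
  have hσ : σ ∈ setSystemAut B := mem_aut_iff.2 fun b hb => by
    obtain ⟨c, -, hc⟩ := hblk ⟨b, hb⟩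
    exact hc ▸ c.2
  refine ⟨⟨σ, hσ⟩, RelIso.ext fun v => ?_⟩
  rcases v with _ | a | b
  · exact hf0.symm
  · exact (hs a).symm
  · obtain ⟨c, hc, hc'⟩ := hblk b
    rw [hc, extAut_block]
    exact congrArg (fun d => some (Sum.inr d)) (Subtype.ext hc')

/-- The stabiliser of the extra vertex. -/
noncomputable def stabEquiv : setSystemAut B ≃*
    MulAction.stabilizer (pointBlockGraph B ≃g pointBlockGraph B) (none : Option (α ⊕ B)) :=
  (MonoidHom.ofInjective extAut_injective).trans (MulEquiv.subgroupCongr range_extAut)

theorem stabEquiv_apply (σ : setSystemAut B) :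
    (stabEquiv σ : pointBlockGraph B ≃g pointBlockGraph B) = extAut σ := rfl

end ext

theorem ncard_std22 : (std22).ncard = 77 := by
  classical
  have h := Steiner.blocksThrough_card_mul std22_steiner (s := (∅ : Finset Pt22)) (by simp)
  rw [Steiner.ncard_eq_card_blocks]
  have he : Steiner.blocksThrough std22 (∅ : Finset Pt22) = Steiner.blocks std22 := by
    simp [Steiner.blocksThrough]
  rw [he, show Fintype.card Pt22 = 22 by simp, Finset.card_empty,
    show Nat.choose (6 - 0) (3 - 0) = 20 by decide,
    show Nat.choose (22 - 0) (3 - 0) = 1540 by decide] at h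
  omega

theorem card_aut_std : Nat.card (stdGraph ≃g stdGraph) = 88704000 := by
  classical
  have := finite_aut stdGraph
  have h := MulAction.index_stabilizer_of_transitive (stdGraph ≃g stdGraph)
    (none : Option (Pt22 ⊕ std22))
  have h2 := Subgroup.index_mul_card (MulAction.stabilizer (stdGraph ≃g stdGraph)
    (none : Option (Pt22 ⊕ std22)))
  rw [← Nat.card_congr stabEquiv.toEquiv, Nat.card_congr autEquiv22.toEquiv, card_pairStab, h] at h2
  rw [← h2, Finite.card_option, Nat.card_sum, Nat.card_coe_set_eq, ncard_std22,
    Nat.card_eq_fintype_card, show Fintype.card Pt22 = 22 by simp]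

/-- The 77 octads through both extra points. -/
def masks22 : List ℕ :=
  [8391797, 8398155, 8412681, 8421811, 8431757, 8471941, 8499969, 8505411, 8524371, 8536111,
   8546577, 8593633, 8619033, 8657159, 8663097, 8675909, 8688833, 8716939, 8783649, 8922769,
   8946281, 8966165, 8983587, 9048457, 9112069, 9193633, 9240913, 9347075, 9440193, 9465987,
   9471495, 9506893, 9519665, 9607201, 9748745, 9776129, 9830549, 9963547, 9969957, 10110017,
   10486557, 10496547, 10506593, 10557585, 10630149, 10666625, 10765331, 10846245, 10881097,
   11010247, 11046145, 11100169, 11535529, 11575377, 11731203, 12325377, 12587685, 12599513,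
   12641313, 12650793, 12656663, 12717187, 12747077, 12880401, 13062145, 13121601, 13124355,
   13370381, 13636881, 13771273, 13893731, 14254209, 14716939, 14747201, 14950785, 15335473,
   15747077]

/-- The points of a mask. -/
def blockOf (m : ℕ) : Finset Pt22 := Finset.univ.filter fun x => m.testBit x.1.val

/-- The blocks as a computable finset. -/
def blocks22 : Finset (Finset Pt22) := (masks22.map blockOf).toFinset

theorem coe_blocks22 : (blocks22 : Set (Finset Pt22)) = std22 := by
  have hmem : ∀ m ∈ masks22, Golay.inCode (Golay.toMask ((addTwo (blockOf m)).image iota22)) = true ∧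
      Golay.pop (Golay.toMask ((addTwo (blockOf m)).image iota22)) = 8 := by decide +kernel
  refine Set.eq_of_subset_of_ncard_le ?_ ?_ (Set.toFinite _)
  · intro b hb
    simp only [blocks22, List.coe_toFinset, List.mem_map, Set.mem_ofPred_eq] at hb
    obtain ⟨m, hm, rfl⟩ := hb
    exact Golay.mem_octads_iff_mask.2 (hmem m hm)
  · rw [ncard_std22, Set.ncard_coe_finset, show blocks22.card = 77 by decide +kernel]

theorem mem_blocks22 {b : Finset Pt22} : b ∈ blocks22 ↔ b ∈ std22 := by
  rw [← Finset.mem_coe, coe_blocks22]

/-- The permutation `x ↦ -1/x` of the 22 points. -/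
def negInv : Equiv.Perm Pt22 where
  toFun x := ⟨-(x.1 ^ 21), (by decide : ∀ x : ZMod 23, x ≠ 0 → -(x ^ 21) ≠ 0) x.1 x.2⟩
  invFun x := ⟨-(x.1 ^ 21), (by decide : ∀ x : ZMod 23, x ≠ 0 → -(x ^ 21) ≠ 0) x.1 x.2⟩
  left_inv := by unfold Function.LeftInverse; decide
  right_inv := by unfold Function.RightInverse Function.LeftInverse; decide

/-- Each mask with the mask of its image under `negInv`. -/
def negPairs : List (ℕ × ℕ) :=
  [(8391797, 9112069), (8398155, 14254209), (8412681, 10846245), (8421811, 13771273),
   (8431757, 8431757), (8471941, 9776129), (8499969, 11535529), (8505411, 13370381),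
   (8524371, 15335473), (8536111, 12880401), (8546577, 9830549), (8593633, 8922769),
   (8619033, 8619033), (8657159, 15747077), (8663097, 10666625), (8675909, 9193633),
   (8688833, 11100169), (8716939, 12641313), (8783649, 9519665), (8922769, 8593633),
   (8946281, 8946281), (8966165, 10881097), (8983587, 14747201), (9048457, 11575377),
   (9112069, 8391797), (9193633, 8675909), (9240913, 10110017), (9347075, 12599513),
   (9440193, 9969957), (9465987, 14950785), (9471495, 12650793), (9506893, 11046145),
   (9519665, 8783649), (9607201, 10486557), (9748745, 9748745), (9776129, 8471941),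
   (9830549, 8546577), (9963547, 12747077), (9969957, 9440193), (10110017, 9240913),
   (10486557, 9607201), (10496547, 12587685), (10506593, 12325377), (10557585, 10630149),
   (10630149, 10557585), (10666625, 8663097), (10765331, 13062145), (10846245, 8412681),
   (10881097, 8966165), (11010247, 13121601), (11046145, 9506893), (11100169, 8688833),
   (11535529, 8499969), (11575377, 9048457), (11731203, 13636881), (12325377, 10506593),
   (12587685, 10496547), (12599513, 9347075), (12641313, 8716939), (12650793, 9471495),
   (12656663, 12717187), (12717187, 12656663), (12747077, 9963547), (12880401, 8536111),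
   (13062145, 10765331), (13121601, 11010247), (13124355, 13893731), (13370381, 8505411),
   (13636881, 11731203), (13771273, 8421811), (13893731, 13124355), (14254209, 8398155),
   (14716939, 14716939), (14747201, 8983587), (14950785, 9465987), (15335473, 8524371),
   (15747077, 8657159)]

theorem negPairs_fst : negPairs.map Prod.fst = masks22 := by decide +kernel

theorem negPairs_snd : negPairs.all (fun e => masks22.contains e.2 &&
    (List.range' 1 22).all fun i => e.2.testBit i == e.1.testBit (23 - (i ^ 21) % 23)) = true := by
  decide +kernel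

theorem negInv_val : ∀ x : Pt22, (negInv x).1.val = 23 - (x.1.val ^ 21) % 23 ∧
    x.1.val ∈ List.range' 1 22 := by decide +kernel

theorem image_negInv (b : Finset Pt22) (hb : b ∈ blocks22) :
    b.image (fun x => negInv • x) ∈ blocks22 := by
  rw [blocks22, List.mem_toFinset, List.mem_map] at hb
  obtain ⟨m, hm, rfl⟩ := hb
  rw [← negPairs_fst, List.mem_map] at hm
  obtain ⟨e, he, rfl⟩ := hm
  have h := List.all_eq_true.1 negPairs_snd e he
  simp only [Bool.and_eq_true, List.contains_iff_mem, List.all_eq_true, beq_iff_eq] at h
  rw [blocks22, List.mem_toFinset, List.mem_map]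
  refine ⟨e.2, h.1, Finset.ext fun x => ?_⟩
  obtain ⟨hx, hxr⟩ := negInv_val x
  rw [Finset.mem_image, blockOf, Finset.mem_filter, and_iff_right (Finset.mem_univ _), h.2 _ hxr, ← hx]
  constructor
  · intro ht
    exact ⟨negInv x, by simp [blockOf, ht], negInv.left_inv x⟩
  · rintro ⟨y, hy, rfl⟩
    rw [Equiv.Perm.smul_def, show negInv (negInv y) = y from negInv.left_inv y]
    simpa [blockOf] using hy

theorem negInv_mem : negInv ∈ setSystemAut std22 := by
  refine mem_aut_iff.2 fun b hb => ?_
  rw [Finset.smul_finset_def]
  exact mem_blocks22.1 (image_negInv b (mem_blocks22.2 hb))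

/-- An odd automorphism fixing the extra vertex. -/
def oddAut : stdGraph ≃g stdGraph := extAut ⟨negInv, negInv_mem⟩

/-- The sign of the action on the vertices. -/
noncomputable def signHom : (stdGraph ≃g stdGraph) →* ℤˣ :=
  letI := Fintype.ofFinite (Option (Pt22 ⊕ std22))
  letI := Classical.decEq (Option (Pt22 ⊕ std22))
  (Equiv.Perm.sign (α := Option (Pt22 ⊕ std22))).comp
    (MulAction.toPermHom (stdGraph ≃g stdGraph) (Option (Pt22 ⊕ std22)))

theorem signHom_oddAut : signHom oddAut = -1 := by
  classical
  have : Fact (Nat.Prime 2) := ⟨Nat.prime_two⟩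
  letI := Fintype.ofFinite (Option (Pt22 ⊕ std22))
  letI := Classical.decEq (Option (Pt22 ⊕ std22))
  set p : Equiv.Perm (Option (Pt22 ⊕ std22)) :=
    MulAction.toPermHom (stdGraph ≃g stdGraph) (Option (Pt22 ⊕ std22)) oddAut with hp
  show Equiv.Perm.sign p = -1
  have hpap : ∀ v, p v = oddAut v := fun _ => rfl
  have hsq : negInv * negInv = 1 := Equiv.ext negInv.left_inv
  have h2 : p ^ 2 = 1 := by
    rw [hp, ← map_pow, pow_two, oddAut, ← map_mul,
      show (⟨negInv, negInv_mem⟩ : setSystemAut std22) * ⟨negInv, negInv_mem⟩ = 1 from Subtype.ext hsq,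
      map_one, map_one]
  rw [Equiv.Perm.sign_of_cycleType_eq_replicate two_pos
    (Equiv.Perm.cycleType_of_pow_prime_eq_one h2), if_neg (by decide)]
  have hfix : Nat.card (Function.fixedPoints p) = 6 := by
    have hset : Function.fixedPoints p = insert none ((fun b : std22 => some (Sum.inr b)) ''
        {b : std22 | (b : Finset Pt22).image negInv = (b : Finset Pt22)}) := by
      ext v
      show p v = v ↔ _
      rw [hpap, oddAut]
      rcases v with _ | a | b
      · simp [extAut_none]
      · simp only [extAut_point, Option.some.injEq, Sum.inl.injEq, Set.mem_insert_iff, reduceCtorEq,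
          Set.mem_image, and_false, exists_false, or_self, iff_false]
        revert a
        decide
      · simp only [extAut_block, Option.some.injEq, Sum.inr.injEq, Set.mem_insert_iff, reduceCtorEq,
          Set.mem_image, Set.mem_ofPred_eq, exists_eq_right, false_or]
        exact Subtype.ext_iff
    rw [Nat.card_coe_set_eq, hset, Set.ncard_insert_of_notMem (by simp) (Set.toFinite _),
      Set.ncard_image_of_injective _ (fun b c h => Sum.inr.inj (Option.some.inj h)),
      ← Set.ncard_image_of_injective _ Subtype.val_injective,
      show Subtype.val '' {b : std22 | (b : Finset Pt22).image negInv = (b : Finset Pt22)} =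
        ↑(blocks22.filter fun b => b.image negInv = b) by
        ext b
        simp only [Set.mem_image, Set.mem_ofPred_eq, Finset.coe_filter, mem_blocks22, Subtype.exists,
          exists_and_left, exists_prop, exists_eq_right_right]
        exact and_comm,
      Set.ncard_coe_finset, show (blocks22.filter fun b => b.image negInv = b).card = 5 by decide +kernel]
  rw [← Nat.card_eq_fintype_card (α := Function.fixedPoints p), hfix, ← Nat.card_eq_fintype_card,
    Finite.card_option, Nat.card_sum, Nat.card_coe_set_eq, ncard_std22,
    Nat.card_eq_fintype_card (α := Pt22), show Fintype.card Pt22 = 22 by simp]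
  decide

end CfsgLib.HSGraph

namespace CfsgLib.HSGraph

open Cfsg CfsgLib.DesignUnique

theorem exists_aut_equiv {α : Type*} [Fintype α] [DecidableEq α] (hα : Fintype.card α = 22)
    {B : Set (Finset α)} (hB : IsSteinerSystem 3 6 B) :
    Nonempty ((pointBlockGraph B ≃g pointBlockGraph B) ≃* (stdGraph ≃g stdGraph)) := by
  obtain ⟨e, he⟩ := exists_equiv22 hα hB
  obtain ⟨φ, -, -⟩ := exists_iso_of_setSystem e he
  exact ⟨autCongr φ⟩

end CfsgLib.HSGraph
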