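import Cfsg.Prelude.Def_Sporadic_a
import Cfsg.Agent.Eq.Def_Sporadic_a
import Mathlib

/-! A strongly regular graph with parameters (100, 22, 0, 6) is the point-block graph of an
S(3, 6, 22). -/

set_option autoImplicit false
set_option linter.unusedSectionVars false

namespace CfsgLib.HSGraph

open Cfsg Finset

section pbg

variable {α : Type*} {B : Set (Finset α)}

theorem adj_none_point (a : α) : (pointBlockGraph B).Adj none (some (Sum.inl a)) := by
  simp [pointBlockGraph, SimpleGraph.fromRel_adj, pointBlockRel]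

theorem not_adj_none_block (b : B) : ¬ (pointBlockGraph B).Adj none (some (Sum.inr b)) := by
  simp [pointBlockGraph, SimpleGraph.fromRel_adj, pointBlockRel]

theorem not_adj_point_point (a a' : α) :
    ¬ (pointBlockGraph B).Adj (some (Sum.inl a)) (some (Sum.inl a')) := by
  simp [pointBlockGraph, SimpleGraph.fromRel_adj, pointBlockRel]

theorem adj_point_block (a : α) (b : B) :
    (pointBlockGraph B).Adj (some (Sum.inl a)) (some (Sum.inr b)) ↔ a ∈ (b : Finset α) := by
  simp [pointBlockGraph, SimpleGraph.fromRel_adj, pointBlockRel]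

theorem adj_block_block (b c : B) :
    (pointBlockGraph B).Adj (some (Sum.inr b)) (some (Sum.inr c)) ↔
      b ≠ c ∧ Disjoint (b : Finset α) (c : Finset α) := by
  rw [pointBlockGraph, SimpleGraph.fromRel_adj]
  constructor
  · rintro ⟨hne, h | h⟩
    · exact ⟨fun e => hne (by rw [e]), h⟩
    · exact ⟨fun e => hne (by rw [e]), (show Disjoint (c : Finset α) (b : Finset α) from h).symm⟩
  · rintro ⟨hne, h⟩
    exact ⟨fun e => hne (Sum.inr.inj (Option.some.inj e)), Or.inl h⟩

/-- A map respecting adjacency on the three kinds of pairs is a graph isomorphism. -/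
noncomputable def isoOfKinds {V : Type*} {G : SimpleGraph V} (f : Option (α ⊕ B) → V)
    (hf : Function.Bijective f)
    (h1 : ∀ a, G.Adj (f none) (f (some (Sum.inl a))))
    (h2 : ∀ b, ¬ G.Adj (f none) (f (some (Sum.inr b))))
    (h3 : ∀ a a', ¬ G.Adj (f (some (Sum.inl a))) (f (some (Sum.inl a'))))
    (h4 : ∀ a (b : B), G.Adj (f (some (Sum.inl a))) (f (some (Sum.inr b))) ↔ a ∈ (b : Finset α))
    (h5 : ∀ b c : B, b ≠ c → (G.Adj (f (some (Sum.inr b))) (f (some (Sum.inr c))) ↔
      Disjoint (b : Finset α) (c : Finset α))) :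
    pointBlockGraph B ≃g G where
  toEquiv := Equiv.ofBijective f hf
  map_rel_iff' := by
    intro u v
    rw [Equiv.ofBijective_apply, Equiv.ofBijective_apply]
    rcases u with _ | a | b <;> rcases v with _ | a' | c
    · exact iff_of_false (G.irrefl) ((pointBlockGraph B).irrefl)
    · exact iff_of_true (h1 a') (adj_none_point a')
    · exact iff_of_false (h2 c) (not_adj_none_block c)
    · exact iff_of_true (h1 a).symm (adj_none_point a).symm
    · exact iff_of_false (h3 a a') (not_adj_point_point a a')
    · rw [h4, adj_point_block]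
    · exact iff_of_false (fun h => h2 b h.symm) (fun h => not_adj_none_block b h.symm)
    · rw [G.adj_comm, (pointBlockGraph B).adj_comm, h4, adj_point_block]
    · by_cases hbc : b = c
      · subst hbc
        exact iff_of_false (G.irrefl) ((pointBlockGraph B).irrefl)
      · rw [h5 b c hbc, adj_block_block, and_iff_right hbc]

theorem isoOfKinds_apply {V : Type*} {G : SimpleGraph V} (f : Option (α ⊕ B) → V)
    (hf : Function.Bijective f) (h1 h2 h3 h4 h5) (u : Option (α ⊕ B)) :
    isoOfKinds (G := G) f hf h1 h2 h3 h4 h5 u = f u := rfl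

variable {β : Type*} [DecidableEq β] {S : Set (Finset β)}

/-- An isomorphism of set systems gives one of point-block graphs. -/
theorem exists_iso_of_setSystem (e : α ≃ β) (h : (fun b => b.image e) '' B = S) :
    ∃ φ : pointBlockGraph B ≃g pointBlockGraph S, φ none = none ∧
      ∀ a, φ (some (Sum.inl a)) = some (Sum.inl (e a)) := by
  let g : B → S := fun b => ⟨(b : Finset α).image e, h ▸ ⟨b, b.2, rfl⟩⟩
  have hg : Function.Bijective g := by
    constructor
    · intro b c hbc
      exact Subtype.ext (Finset.image_injective e.injective (congrArg Subtype.val hbc))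
    · rintro ⟨s, hs⟩
      obtain ⟨b, hb, hbs⟩ := (h ▸ hs : s ∈ (fun b => b.image e) '' B)
      exact ⟨⟨b, hb⟩, Subtype.ext hbs⟩
  let F : Option (α ⊕ B) ≃ Option (β ⊕ S) :=
    Equiv.optionCongr (Equiv.sumCongr e (Equiv.ofBijective g hg))
  refine ⟨isoOfKinds F F.bijective (fun a => adj_none_point _) (fun b => not_adj_none_block _)
    (fun a a' => not_adj_point_point _ _) (fun a b => ?_) (fun b c hbc => ?_), rfl, fun a => rfl⟩
  · show (pointBlockGraph S).Adj (some (Sum.inl (e a))) (some (Sum.inr (g b))) ↔ _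
    rw [adj_point_block]
    exact Finset.mem_image.trans ⟨fun ⟨x, hx, hxa⟩ => e.injective hxa ▸ hx, fun ha => ⟨a, ha, rfl⟩⟩
  · show (pointBlockGraph S).Adj (some (Sum.inr (g b))) (some (Sum.inr (g c))) ↔ _
    rw [adj_block_block, and_iff_right (fun e' => hbc (hg.1 e'))]
    exact Finset.disjoint_image e.injective

end pbg

section srg

variable {V : Type*} [Fintype V] [DecidableEq V] {G : SimpleGraph V} [DecidableRel G.Adj]
  {n k l m : ℕ}

theorem card_common_adj (hG : G.IsSRGWith n k l m) {u v : V} (h : G.Adj u v) :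
    (univ.filter fun w => G.Adj u w ∧ G.Adj v w).card = l := by
  rw [← hG.of_adj u v h, ← Set.toFinset_card]
  congr 1
  ext w; simp [SimpleGraph.mem_commonNeighbors]

theorem card_common_not_adj (hG : G.IsSRGWith n k l m) {u v : V} (hne : u ≠ v) (h : ¬ G.Adj u v) :
    (univ.filter fun w => G.Adj u w ∧ G.Adj v w).card = m := by
  rw [← hG.of_not_adj hne h, ← Set.toFinset_card]
  congr 1
  ext w; simp [SimpleGraph.mem_commonNeighbors]

theorem card_adj (hG : G.IsSRGWith n k l m) (u : V) : (univ.filter fun w => G.Adj u w).card = k := by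
  rw [← hG.regular u, ← G.card_neighborFinset_eq_degree]
  congr 1
  ext w; simp

variable (hG : G.IsSRGWith 100 22 0 6) (x : V)

/-- The common neighbours of a fixed vertex and another one, as a set of points. -/
def blk (y : V) : Finset {a // G.Adj x a} := univ.filter fun a => G.Adj a.1 y

theorem mem_blk {y : V} {a : {a // G.Adj x a}} : a ∈ blk x y ↔ G.Adj a.1 y := by simp [blk]

include hG in
theorem no_triangle {a b c : V} (h1 : G.Adj a b) (h2 : G.Adj b c) (h3 : G.Adj a c) : False := by
  have := card_common_adj hG h1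
  rw [card_eq_zero] at this
  have hc : c ∈ (univ.filter fun w => G.Adj a w ∧ G.Adj b w) := by simp [h2, h3]
  simp [this] at hc

include hG in
theorem card_points : Fintype.card {a // G.Adj x a} = 22 := by
  rw [Fintype.card_subtype]
  exact card_adj hG x

theorem map_blk (y : V) :
    (blk (G := G) x y).map (Function.Embedding.subtype _) = univ.filter fun w => G.Adj x w ∧ G.Adj y w := by
  ext w
  rw [Finset.mem_map]
  simp only [mem_filter, mem_univ, true_and]
  constructor
  · rintro ⟨a, ha, rfl⟩
    exact ⟨a.2, ((mem_blk x).1 ha).symm⟩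
  · rintro ⟨h1, h2⟩
    exact ⟨⟨w, h1⟩, (mem_blk x).2 h2.symm, rfl⟩

include hG in
theorem card_blk {y : V} (hne : x ≠ y) (hn : ¬ G.Adj x y) : (blk (G := G) x y).card = 6 := by
  rw [← Finset.card_map (Function.Embedding.subtype _), map_blk x y, card_common_not_adj hG hne hn]

include hG in
theorem blk_disjoint {y z : V} (h : G.Adj y z) : Disjoint (blk (G := G) x y) (blk x z) := by
  rw [disjoint_left]
  intro a ha hb
  exact no_triangle hG (mem_blk x |>.1 ha) h (mem_blk x |>.1 hb)

include hG in
theorem blk_inter {y z : V} (hy : x ≠ y) (hy' : ¬ G.Adj x y) (hz : x ≠ z) (hz' : ¬ G.Adj x z)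
    (hne : y ≠ z) (hyz : ¬ G.Adj y z) : (blk (G := G) x y ∩ blk x z).card = 2 := by
  -- the non-neighbours of `x` and `y`
  set S := univ.filter fun w => w ≠ x ∧ ¬ G.Adj x w ∧ w ≠ y ∧ ¬ G.Adj y w with hS
  have hN : ∀ w, ((blk (G := G) x y ∩ blk x w).card : ℤ) =
      ∑ a ∈ blk (G := G) x y, if G.Adj a.1 w then (1 : ℤ) else 0 := by
    intro w
    rw [Finset.sum_boole]
    congr 2
    ext a; simp [mem_blk]
  -- among the neighbours of a point, the ones in S
  have hone : ∀ a ∈ blk (G := G) x y, (S.filter fun w => G.Adj a.1 w).card = 20 := by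
    intro a ha
    have hay : G.Adj a.1 y := mem_blk x |>.1 ha
    have : S.filter (fun w => G.Adj a.1 w) =
        ((univ.filter fun w => G.Adj a.1 w).erase x).erase y := by
      ext w
      simp only [hS, mem_filter, mem_univ, true_and, mem_erase]
      constructor
      · rintro ⟨⟨h1, -, h3, -⟩, h5⟩; exact ⟨h3, h1, h5⟩
      · rintro ⟨h3, h1, h5⟩
        exact ⟨⟨h1, fun h => no_triangle hG a.2 h5 h, h3,
          fun h => no_triangle hG hay h h5⟩, h5⟩
    rw [this, card_erase_of_mem (by simp [hay, hy.symm]), card_erase_of_mem (by simp [a.2.symm]),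
      card_adj hG]
  have htwo : ∀ a ∈ blk (G := G) x y, ∀ b ∈ blk (G := G) x y, a ≠ b →
      (S.filter fun w => G.Adj a.1 w ∧ G.Adj b.1 w).card = 4 := by
    intro a ha b hb hab
    have hay : G.Adj a.1 y := mem_blk x |>.1 ha
    have hby : G.Adj b.1 y := mem_blk x |>.1 hb
    have : S.filter (fun w => G.Adj a.1 w ∧ G.Adj b.1 w) =
        ((univ.filter fun w => G.Adj a.1 w ∧ G.Adj b.1 w).erase x).erase y := by
      ext w
      simp only [hS, mem_filter, mem_univ, true_and, mem_erase]
      constructor
      · rintro ⟨⟨h1, -, h3, -⟩, h5⟩; exact ⟨h3, h1, h5⟩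
      · rintro ⟨h3, h1, h5, h6⟩
        exact ⟨⟨h1, fun h => no_triangle hG a.2 h5 h, h3,
          fun h => no_triangle hG hay h h5⟩, h5, h6⟩
    rw [this, card_erase_of_mem (by simp [hay, hby, hy.symm]),
      card_erase_of_mem (by simp [a.2.symm, b.2.symm]),
      card_common_not_adj hG (fun e => hab (Subtype.ext e))
        (fun h => no_triangle hG a.2 h b.2)]
  have h6 : (blk (G := G) x y).card = 6 := card_blk hG x hy hy'
  have hcard : S.card = 60 := by
    have h1 : (univ.filter fun w => G.Adj x w ∨ G.Adj y w).card = 38 := by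
      have h2 := card_union_add_card_inter (univ.filter fun w => G.Adj x w) (univ.filter fun w => G.Adj y w)
      rw [← filter_or, ← filter_and, card_adj hG, card_adj hG, card_common_not_adj hG hy hy'] at h2
      omega
    have h3 : S = ((univ.filter fun w => ¬ (G.Adj x w ∨ G.Adj y w)).erase x).erase y := by
      ext w; simp only [hS, mem_filter, mem_univ, true_and, mem_erase, not_or]
      exact ⟨fun ⟨a, b, c, d⟩ => ⟨c, a, b, d⟩, fun ⟨c, a, b, d⟩ => ⟨a, b, c, d⟩⟩
    have h4 := card_filter_add_card_filter_not (s := (univ : Finset V)) (fun w => G.Adj x w ∨ G.Adj y w)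
    rw [h1, card_univ, hG.card] at h4
    have hyx : ¬ G.Adj y x := fun h => hy' h.symm
    rw [h3, card_erase_of_mem (by simp [hy', hy.symm]), card_erase_of_mem (by simp [hyx])]
    omega
  have hs1 : ∑ w ∈ S, ((blk (G := G) x y ∩ blk x w).card : ℤ) = 120 := by
    simp only [hN]
    rw [Finset.sum_comm, Finset.sum_congr rfl fun a ha => by
      rw [Finset.sum_boole, hone a ha]]
    simp [h6]
  have hs2 : ∑ w ∈ S, ((blk (G := G) x y ∩ blk x w).card : ℤ) ^ 2 = 240 := by
    have hper : ∀ a ∈ blk (G := G) x y, ∑ b ∈ blk (G := G) x y,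
        ((S.filter fun w => G.Adj a.1 w ∧ G.Adj b.1 w).card : ℤ) = 40 := by
      intro a ha
      rw [← Finset.add_sum_erase _ _ ha, Finset.sum_congr rfl fun b hb => by
        rw [htwo a ha b (mem_of_mem_erase hb) (ne_of_mem_erase hb).symm]]
      simp [card_erase_of_mem ha, h6, hone a ha]
    simp only [hN, sq, Finset.sum_mul_sum]
    rw [Finset.sum_comm, Finset.sum_congr rfl fun a ha => show _ = (40 : ℤ) by
      rw [Finset.sum_comm, ← hper a ha]
      refine Finset.sum_congr rfl fun b _ => ?_
      rw [← Finset.sum_boole]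
      exact Finset.sum_congr rfl fun w _ => by by_cases h1 : G.Adj a.1 w <;> simp [h1]]
    simp [h6]
  have hzero : ∑ w ∈ S, (((blk (G := G) x y ∩ blk x w).card : ℤ) - 2) ^ 2 = 0 := by
    simp only [sub_sq, Finset.sum_add_distrib, Finset.sum_sub_distrib, ← Finset.mul_sum,
      ← Finset.sum_mul, hs1, hs2]
    simp [hcard]
  have := (Finset.sum_eq_zero_iff_of_nonneg fun w _ => sq_nonneg _).1 hzero z
    (by simp [hS, hz.symm, hz', hne.symm, hyz])
  have := pow_eq_zero_iff (n := 2) (by norm_num) |>.1 this
  omega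

include hG in
theorem blk_injective {y z : V} (hy : x ≠ y) (hy' : ¬ G.Adj x y) (hz : x ≠ z) (hz' : ¬ G.Adj x z)
    (h : blk (G := G) x y = blk x z) : y = z := by
  by_contra hne
  have h6 := card_blk hG x hy hy'
  by_cases hyz : G.Adj y z
  · have := blk_disjoint hG x hyz
    rw [← h, disjoint_self] at this
    simp [this] at h6
  · have := blk_inter hG x hy hy' hz hz' hne hyz
    rw [← h, inter_self] at this
    omega

include hG in
/-- The blocks of the derived design. -/
theorem steiner :
    IsSteinerSystem 3 6 (Set.range fun y : {y // x ≠ y ∧ ¬ G.Adj x y} => blk (G := G) x y.1) := by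
  refine ⟨?_, ?_⟩
  · rintro _ ⟨y, rfl⟩
    exact card_blk hG x y.2.1 y.2.2
  intro s hs
  have huniq : ∀ y z : {y // x ≠ y ∧ ¬ G.Adj x y}, s ⊆ blk (G := G) x y.1 → s ⊆ blk (G := G) x z.1 → y = z := by
    intro y z hsy hsz
    by_contra hne
    have hne' : y.1 ≠ z.1 := fun e => hne (Subtype.ext e)
    by_cases hyz : G.Adj y.1 z.1
    · have := disjoint_iff_inter_eq_empty.1 (blk_disjoint hG x hyz)
      have := card_le_card (subset_inter hsy hsz)
      simp_all
    · have h2 := blk_inter hG x y.2.1 y.2.2 z.2.1 z.2.2 hne' hyz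
      have := card_le_card (subset_inter hsy hsz)
      omega
  have hY : Fintype.card {y // x ≠ y ∧ ¬ G.Adj x y} = 77 := by
    have h4 := card_filter_add_card_filter_not (s := (univ : Finset V)) (fun w => G.Adj x w)
    rw [card_adj hG, card_univ, hG.card] at h4
    rw [Fintype.card_subtype, show (univ.filter fun w => x ≠ w ∧ ¬ G.Adj x w) =
      (univ.filter fun w => ¬ G.Adj x w).erase x by ext w; simp [ne_comm],
      card_erase_of_mem (by simp)]
    omega
  have hall : (univ : Finset {y // x ≠ y ∧ ¬ G.Adj x y}).biUnion (fun y => powersetCard 3 (blk (G := G) x y.1)) =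
      powersetCard 3 univ := by
    refine eq_of_subset_of_card_le (fun t ht => ?_) ?_
    · simp only [mem_biUnion, mem_powersetCard] at ht ⊢
      obtain ⟨_, _, _, h⟩ := ht
      exact ⟨subset_univ _, h⟩
    · rw [card_biUnion, card_powersetCard, card_univ, card_points hG x,
        sum_congr rfl fun y _ => by rw [card_powersetCard, card_blk hG x y.2.1 y.2.2],
        sum_const, card_univ, hY]
      · decide
      · intro y _ z _ hne
        rw [Function.onFun, disjoint_left]
        intro t hty htz
        rw [mem_powersetCard] at hty htz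
        by_cases hyz : G.Adj y.1 z.1
        · have := disjoint_iff_inter_eq_empty.1 (blk_disjoint hG x hyz)
          have := card_le_card (subset_inter hty.1 htz.1)
          simp_all
        · have := blk_inter hG x y.2.1 y.2.2 z.2.1 z.2.2 (fun e => hne (Subtype.ext e)) hyz
          have := card_le_card (subset_inter hty.1 htz.1)
          omega
  have hmem : s ∈ powersetCard 3 (univ : Finset {a // G.Adj x a}) := mem_powersetCard.2 ⟨subset_univ _, hs⟩
  rw [← hall, mem_biUnion] at hmem
  obtain ⟨y, -, hy⟩ := hmem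
  refine ⟨_, ⟨⟨y, rfl⟩, (mem_powersetCard.1 hy).1⟩, ?_⟩
  rintro _ ⟨⟨z, rfl⟩, hz⟩
  rw [huniq z y hz (mem_powersetCard.1 hy).1]

include hG in
/-- The graph is the point-block graph of the derived design. -/
theorem exists_iso_pbg :
    ∃ φ : pointBlockGraph
        (Set.range fun y : {y // x ≠ y ∧ ¬ G.Adj x y} => blk (G := G) x y.1) ≃g G,
      φ none = x := by
  let g : {y // x ≠ y ∧ ¬ G.Adj x y} → Finset {a // G.Adj x a} := fun y => blk x y.1
  have hg : Function.Injective g := fun y z h =>
    Subtype.ext (blk_injective hG x y.2.1 y.2.2 z.2.1 z.2.2 h)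
  let e : {y // x ≠ y ∧ ¬ G.Adj x y} ≃ Set.range g := Equiv.ofInjective g hg
  let f : Option ({a // G.Adj x a} ⊕ Set.range g) → V := fun
    | none => x
    | some (Sum.inl a) => a.1
    | some (Sum.inr b) => (e.symm b).1
  have hb : ∀ b : Set.range g, blk (G := G) x (e.symm b).1 = (b : Finset _) := fun b =>
    show g (e.symm b) = _ from Equiv.apply_ofInjective_symm hg b
  have hf : Function.Bijective f := by
    constructor
    · rintro (_ | a | b) (_ | a' | c) h <;> simp only [f] at h
      · rfl
      · exact absurd a'.2 (by rw [← h]; exact G.irrefl)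
      · exact absurd h (e.symm c).2.1
      · exact absurd a.2 (by rw [h]; exact G.irrefl)
      · rw [Subtype.ext h]
      · exact absurd a.2 (h ▸ (e.symm c).2.2)
      · exact absurd h.symm (e.symm b).2.1
      · exact absurd a'.2 (h.symm ▸ (e.symm b).2.2)
      · rw [e.symm.injective (Subtype.ext h)]
    · intro v
      by_cases hv : x = v
      · exact ⟨none, hv⟩
      by_cases hv' : G.Adj x v
      · exact ⟨some (Sum.inl ⟨v, hv'⟩), rfl⟩
      · exact ⟨some (Sum.inr (e ⟨v, hv, hv'⟩)), by simp [f]⟩
  refine ⟨isoOfKinds f hf (fun a => a.2) (fun b => (e.symm b).2.2)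
    (fun a a' h => no_triangle hG a.2 h a'.2) (fun a b => ?_) (fun b c hbc => ?_), rfl⟩
  · show G.Adj a.1 (e.symm b).1 ↔ _
    rw [← hb b, mem_blk]
  · show G.Adj (e.symm b).1 (e.symm c).1 ↔ _
    rw [← hb b, ← hb c]
    refine ⟨blk_disjoint hG x, fun hd => by_contra fun hn => ?_⟩
    have := blk_inter hG x (e.symm b).2.1 (e.symm b).2.2 (e.symm c).2.1 (e.symm c).2.2
      (fun h => hbc (e.symm.injective (Subtype.ext h))) hn
    rw [disjoint_iff_inter_eq_empty.1 hd] at this
    simp at this

end srg

end CfsgLib.HSGraph
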