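import Mathlib

/-! Integrality of the multiplicities of a strongly regular graph. -/

set_option autoImplicit false
set_option linter.unusedSectionVars false

open Finset Matrix

namespace CfsgLib.HSGraph

/-- The trace of a real idempotent matrix is a natural number. -/
theorem exists_nat_trace {V : Type*} [Fintype V] [DecidableEq V] (E : Matrix V V ℝ) (h : E * E = E) :
    ∃ ν : ℕ, E.trace = ν := by
  have hid : IsIdempotentElem E.toLin' := by
    rw [IsIdempotentElem, Module.End.mul_eq_comp, ← Matrix.toLin'_mul, h]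
  obtain ⟨p, hp⟩ : ∃ p, LinearMap.IsProj p E.toLin' := ⟨_, LinearMap.IsIdempotentElem.isProj_range _ hid⟩
  exact ⟨Module.finrank ℝ p, by rw [← Matrix.trace_toLin'_eq, hp.trace]⟩

/-- The all-ones matrix. -/
def ones (V : Type*) : Matrix V V ℝ := Matrix.of fun _ _ => 1

theorem ones_mul_ones (V : Type*) [Fintype V] :
    ones V * ones V = (Fintype.card V : ℝ) • ones V := by
  ext i j; simp [ones, Matrix.mul_apply]

variable {V : Type*} [Fintype V] [DecidableEq V] {G : SimpleGraph V} [DecidableRel G.Adj]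
  {n k l m : ℕ}

theorem mul_ones (h : G.IsSRGWith n k l m) : G.adjMatrix ℝ * ones V = (k : ℝ) • ones V := by
  ext i j
  simp [ones, h.regular i]

theorem ones_mul (h : G.IsSRGWith n k l m) : ones V * G.adjMatrix ℝ = (k : ℝ) • ones V := by
  ext i j
  simp [ones, h.regular j]

theorem compl_adjMatrix : Gᶜ.adjMatrix ℝ = ones V - 1 - G.adjMatrix ℝ := by
  ext i j
  simp only [SimpleGraph.adjMatrix_apply, SimpleGraph.compl_adj, Matrix.sub_apply, ones, Matrix.of_apply,
    Matrix.one_apply]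
  by_cases e : i = j
  · subst e; simp
  · by_cases a : G.Adj i j <;> simp [e, a]

/-- The integrality condition. -/
theorem srg_integrality (h : G.IsSRGWith n k l m) (hn : 0 < n) (hl : l + 1 ≤ k) (hkn : k + 1 ≤ n)
    (hD : 0 < ((l : ℤ) - m) ^ 2 + 4 * ((k : ℤ) - m)) :
    ∃ z : ℤ, z ^ 2 * (((l : ℤ) - m) ^ 2 + 4 * ((k : ℤ) - m)) =
      (2 * (k : ℤ) + ((n : ℤ) - 1) * ((l : ℤ) - m)) ^ 2 := by
  set D : ℝ := ((l : ℝ) - m) ^ 2 + 4 * ((k : ℝ) - m) with hDdef
  have hDpos : 0 < D := by
    have : ((0 : ℤ) : ℝ) < ((((l : ℤ) - m) ^ 2 + 4 * ((k : ℤ) - m) : ℤ) : ℝ) := by exact_mod_cast hD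
    push_cast at this
    simpa [hDdef] using this
  set s := Real.sqrt D with hs
  have hs0 : s ≠ 0 := (Real.sqrt_pos.2 hDpos).ne'
  have hss : s * s = D := Real.mul_self_sqrt hDpos.le
  set r : ℝ := (((l : ℝ) - m) + s) / 2 with hr
  set t : ℝ := (((l : ℝ) - m) - s) / 2 with ht
  have hp := SimpleGraph.IsSRGWith.param_eq G h hn
  have hpar : (k : ℝ) * ((k : ℝ) - l - 1) = ((n : ℝ) - k - 1) * m := by
    have h' : ((k * (k - l - 1) : ℕ) : ℝ) = (((n - k - 1) * m : ℕ) : ℝ) := by rw [hp]
    rw [Nat.sub_sub, Nat.sub_sub] at h'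
    push_cast [Nat.cast_sub hl, Nat.cast_sub hkn] at h'
    linarith
  set A := G.adjMatrix ℝ with hA
  set c : ℝ := ((k : ℝ) - t) / n with hc
  have hn' : (n : ℝ) ≠ 0 := by exact_mod_cast hn.ne'
  set X := A - t • (1 : Matrix V V ℝ) - c • ones V with hX
  have hA2 : A * A = (k : ℝ) • (1 : Matrix V V ℝ) + (l : ℝ) • A + (m : ℝ) • (ones V - 1 - A) := by
    have := h.matrix_eq (α := ℝ)
    rw [pow_two, compl_adjMatrix] at this
    simp only [← Nat.cast_smul_eq_nsmul ℝ] at this
    exact this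
  have hXX : X * X = s • X := by
    rw [hX]
    have hAJ : A * ones V = (k : ℝ) • ones V := mul_ones h
    have hJA : ones V * A = (k : ℝ) • ones V := ones_mul h
    simp only [sub_mul, mul_sub, Matrix.smul_mul, Matrix.mul_smul, one_mul, mul_one, hA2, hAJ, hJA,
      ones_mul_ones, h.card, smul_smul, smul_sub]
    have e1 : k - m + t * t = -(s * t) := by
      have : r * t = -((k : ℝ) - m) := by
        rw [hr, ht]; linear_combination (-(1 : ℝ) / 4) * (hss.trans hDdef)
      have hrts : r = t + s := by rw [hr, ht]; ring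
      rw [hrts] at this
      linear_combination this
    have e2 : (l : ℝ) - m - 2 * t = s := by rw [ht]; ring
    have e3 : (m : ℝ) - 2 * c * k + 2 * c * t + c * c * n = -(s * c) := by
      have hkey : (m : ℝ) * n = ((k : ℝ) - t) * ((k : ℝ) - r) := by
        rw [hr, ht]
        linear_combination (-(1 : ℝ)) * hpar + ((1 : ℝ) / 4) * (hss.trans hDdef)
      have hcn : c * n = (k : ℝ) - t := by rw [hc]; field_simp
      have : (m : ℝ) = c * ((k : ℝ) - r) := by
        rw [hc, div_mul_eq_mul_div, eq_div_iff hn', hkey]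
      have hrts : r = t + s := by rw [hr, ht]; ring
      rw [hrts] at this
      linear_combination this + c * hcn
    clear_value c t r s A
    match_scalars <;> first | linear_combination e1 | linear_combination e2 | linear_combination e3
  set E := s⁻¹ • X with hE
  have hEE : E * E = E := by
    rw [hE, Matrix.smul_mul, Matrix.mul_smul, hXX, smul_smul, smul_smul]
    congr 1
    field_simp
  obtain ⟨ν, hν⟩ := exists_nat_trace E hEE
  have htr : E.trace = s⁻¹ * (-(n : ℝ) * t - ((k : ℝ) - t)) := by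
    rw [hE, Matrix.trace_smul, hX, Matrix.trace_sub, Matrix.trace_sub, Matrix.trace_smul,
      Matrix.trace_smul, Matrix.trace_one, hA, SimpleGraph.trace_adjMatrix, h.card, smul_eq_mul,
      smul_eq_mul, smul_eq_mul]
    rw [show (ones V).trace = (n : ℝ) by simp [ones, Matrix.trace, Matrix.diag, h.card], hc]
    field_simp
    ring
  refine ⟨2 * (ν : ℤ) - ((n : ℤ) - 1), ?_⟩
  rw [hν] at htr
  have hz : s * ν = -(n : ℝ) * t - ((k : ℝ) - t) := by rw [htr]; field_simp
  have hreal : (2 * (ν : ℝ) - ((n : ℝ) - 1)) ^ 2 * D =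
      (2 * (k : ℝ) + ((n : ℝ) - 1) * ((l : ℝ) - m)) ^ 2 := by
    have h1 : s * (2 * (ν : ℝ) - ((n : ℝ) - 1)) = -(2 * (k : ℝ) + ((n : ℝ) - 1) * ((l : ℝ) - m)) := by
      rw [ht] at hz; linear_combination 2 * hz
    calc _ = (s * (2 * (ν : ℝ) - ((n : ℝ) - 1))) ^ 2 := by rw [mul_pow, sq s, hss]; ring
      _ = _ := by rw [h1, neg_sq]
  rw [hDdef] at hreal
  exact_mod_cast hreal

end CfsgLib.HSGraph
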