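import Cfsg.Agent.HSGraph.Basic
import Cfsg.Agent.DesignUnique.Large
import Cfsg.Agent.S0428

/-! The graphs with parameters (100, 22, 0, 6) are all isomorphic, with transitive groups. -/

set_option autoImplicit false

namespace CfsgLib.HSGraph

open Cfsg CfsgLib.DesignUnique

/-- The standard graph. -/
abbrev stdGraph : SimpleGraph (Option (Pt22 ⊕ std22)) := pointBlockGraph std22

/-- Every graph with these parameters is the standard one, pointed at any vertex. -/
theorem exists_iso_std {V : Type*} [Fintype V] {G : SimpleGraph V} [DecidableRel G.Adj]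
    (hG : G.IsSRGWith 100 22 0 6) (x : V) : ∃ φ : G ≃g stdGraph, φ x = none := by
  classical
  obtain ⟨φ, hφ⟩ := exists_iso_pbg (G := G) hG x
  obtain ⟨e, he⟩ := exists_equiv22 (card_points hG x) (steiner hG x)
  obtain ⟨ψ, hψ, -⟩ := exists_iso_of_setSystem e he
  exact ⟨φ.symm.trans ψ, show ψ (φ.symm x) = none by
    rw [show φ.symm x = none from φ.injective (by rw [RelIso.apply_symm_apply, hφ]), hψ]⟩

theorem exists_iso_srg {V W : Type*} [Fintype V] [Fintype W] {G : SimpleGraph V} {H : SimpleGraph W}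
    [DecidableRel G.Adj] [DecidableRel H.Adj] (hG : G.IsSRGWith 100 22 0 6)
    (hH : H.IsSRGWith 100 22 0 6) : Nonempty (G ≃g H) := by
  have h1 : 0 < Fintype.card V := by rw [hG.card]; norm_num
  have h2 : 0 < Fintype.card W := by rw [hH.card]; norm_num
  obtain ⟨x⟩ := Fintype.card_pos_iff.1 h1
  obtain ⟨y⟩ := Fintype.card_pos_iff.1 h2
  obtain ⟨φ, -⟩ := exists_iso_std hG x
  obtain ⟨ψ, -⟩ := exists_iso_std hH y
  exact ⟨φ.trans ψ.symm⟩

/-- Isomorphic graphs have isomorphic groups. -/
def autCongr {V W : Type*} {G : SimpleGraph V} {H : SimpleGraph W} (φ : G ≃g H) :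
    (G ≃g G) ≃* (H ≃g H) where
  toFun f := φ.symm.trans (f.trans φ)
  invFun f := φ.trans (f.trans φ.symm)
  left_inv f := RelIso.ext fun v => by simp
  right_inv f := RelIso.ext fun v => by simp
  map_mul' f g := RelIso.ext fun v => by simp

theorem finite_aut {V : Type*} [Finite V] (G : SimpleGraph V) : Finite (G ≃g G) :=
  Finite.of_injective (fun f => f.toEquiv) fun _ _ h =>
    RelIso.ext fun v => congrArg (fun e : V ≃ V => e v) h

theorem std_srg [Fintype std22] [DecidableRel stdGraph.Adj] : stdGraph.IsSRGWith 100 22 0 6 :=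
  Cfsg.Agent.S0428.result (by simp) std22_steiner

instance pretransitive_std : MulAction.IsPretransitive (stdGraph ≃g stdGraph) (Option (Pt22 ⊕ std22)) := by
  classical
  have := Fintype.ofFinite std22
  refine ⟨fun u v => ?_⟩
  obtain ⟨φ, hφ⟩ := exists_iso_std std_srg u
  obtain ⟨ψ, hψ⟩ := exists_iso_std std_srg v
  refine ⟨φ.trans ψ.symm, ?_⟩
  show ψ.symm (φ u) = v
  rw [hφ, ← hψ, RelIso.symm_apply_apply]

end CfsgLib.HSGraph
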